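import Groth.Agent.DRingKProj.Cells
import Groth.Agent.DRingKProj.PseudoCoh
import Groth.Agent.DRingKProj.Trunc
import Groth.Agent.FlatComplex.Exact
import Groth.Agent.FlatComplex.Homology
import Mathlib.Algebra.Homology.Embedding.Restriction
import Mathlib.Algebra.Homology.Embedding.RestrictionHomology

/-!
# Finite free models of flat complexes with finitely generated cohomology
-/

noncomputable section

universe u

open CategoryTheory MonoidalCategory Limits Groth.Agent.FlatComplex
open scoped TensorProduct

namespace Groth.Agent.BCModel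

attribute [local instance] HasDerivedCategory.standard

variable {A : Type u} [CommRing A]

/-- An exact sequence with finitely generated ends has a finitely generated middle. -/
lemma finite_middle_of_exact [IsNoetherianRing A] {S : ShortComplex (ModuleCat.{u} A)} (hS : S.Exact)
    (h₁ : Module.Finite A S.X₁) (h₃ : Module.Finite A S.X₃) : Module.Finite A S.X₂ := by
  refine ⟨Submodule.fg_of_fg_map_of_fg_inf_ker S.g.hom (IsNoetherian.noetherian _) ?_⟩
  rw [top_inf_eq, ← (ShortComplex.moduleCat_exact_iff_range_eq_ker S).1 hS, ← Submodule.map_top]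
  exact Submodule.FG.map _ h₁.fg_top

/-- The cohomology of a complex of finite modules is finite. -/
lemma finite_homology [IsNoetherianRing A] {J : Type} {c : ComplexShape J}
    (F : HomologicalComplex (ModuleCat.{u} A) c) (i : J) [Module.Finite A (F.X i)] :
    Module.Finite A (F.homology i) :=
  haveI : Module.Finite A (F.sc i).X₂ := ‹Module.Finite A (F.X i)›
  haveI : Module.Finite A (LinearMap.ker (F.sc i).g.hom) := Module.Finite.iff_fg.2 (IsNoetherian.noetherian _)
  haveI : Module.Finite A (F.sc i).moduleCatLeftHomologyData.H :=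
    inferInstanceAs (Module.Finite A (_ ⧸ LinearMap.range (F.sc i).moduleCatToCycles))
  Module.Finite.equiv (F.sc i).moduleCatHomologyIso.toLinearEquiv.symm

/-- A complex with finite cohomology has finite truncated cones. -/
theorem coneFinite [IsNoetherianRing A] (K : DRing.Cx A) (b : ℤ)
    (hK : ∀ i, Module.Finite A (K.homology i)) : DRingKProj.ConeFinite K b := by
  intro n F f _ _ hfree _
  haveI := (hfree (n + 1)).1
  exact finite_middle_of_exact
    (CochainComplex.homologyMap_exact₃_of_distTriang (CochainComplex.mappingCone.triangle f)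
      (DerivedCategory.mappingCone_triangle_distinguished f) n (n + 1))
    (hK n) (finite_homology F (n + 1))

/-- Exactness of a cone in the degrees where both complexes are exact. -/
lemma exactAt_cone {K L : DRing.Cx A} (f : K ⟶ L) (n : ℤ) (hL : L.ExactAt n) (hK : K.ExactAt (n + 1)) :
    (CochainComplex.mappingCone f).ExactAt n := by
  have h := CochainComplex.homologyMap_exact₃_of_distTriang (CochainComplex.mappingCone.triangle f)
      (DerivedCategory.mappingCone_triangle_distinguished f) n (n + 1)
  rw [HomologicalComplex.exactAt_iff_isZero_homology] at hL hK ⊢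
  exact h.isZero_X₂ (hL.eq_of_src _ _) (hK.eq_of_tgt _ _)

/-- A product of two flat modules is flat. -/
lemma flat_prod (M N : Type u) [AddCommGroup M] [Module A M] [AddCommGroup N] [Module A N]
    [Module.Flat A M] [Module.Flat A N] : Module.Flat A (M × N) := by
  refine (flat_ker_iff (LinearMap.snd A M N) fun n => ⟨(0, n), rfl⟩).1 (Module.Flat.of_linearEquiv (M := M) ?_)
  exact
    { toFun := fun x => x.1.1
      invFun := fun m => ⟨(m, 0), rfl⟩
      left_inv := fun x => Subtype.ext (Prod.ext rfl x.2.symm)
      right_inv := fun _ => rfl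
      map_add' := fun _ _ => rfl
      map_smul' := fun _ _ => rfl }

section Acyclic

variable (P : ChainComplex (ModuleCat.{u} A) ℤ)

/-- An exact complex of flat modules, eventually universally exact, is universally exact. -/
theorem subsingleton_T_of_exact (hP : ∀ i, Module.Flat A (P.X i)) (hex : ∀ j, P.ExactAt j) (p₀ : ℤ)
    (h0 : ∀ j, j ≤ p₀ → ∀ M, Subsingleton (CohIII.T P j M)) (j : ℤ) (M : ModuleCat.{u} A) :
    Subsingleton (CohIII.T P j M) := by
  have hker : ∀ j, Function.Injective (dbar P (j + 1) j (j - 1)) := fun j => by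
    obtain ⟨e⟩ := nonempty_T_self_equiv P (rfl : j + 1 = j + 1) (sub_add_cancel j 1)
    have : Subsingleton ((CohIII.TFun P j).obj (ModuleCat.of A A)) := by
      refine ModuleCat.subsingleton_of_isZero ?_
      refine IsZero.of_iso ((HomologicalComplex.exactAt_iff_isZero_homology _ _).1 (hex j))
        (HomologicalComplex.homologyMapIso ((NatIso.mapHomologicalComplex
          (rightUnitorNatIso (ModuleCat.{u} A)) (ComplexShape.down ℤ)).app P) j)
    rw [← LinearMap.ker_eq_bot, ← Submodule.subsingleton_iff_eq_bot]
    exact e.symm.toEquiv.subsingleton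
  have hflat : ∀ j, Module.Flat A (Cok P (j + 1) j) := by
    suffices ∀ k : ℕ, ∀ j, j ≤ p₀ + k → Module.Flat A (Cok P (j + 1) j) from
      fun j => this (j - p₀).toNat j (by omega)
    intro k
    induction k with
    | zero =>
      intro j hj
      refine (preservesMono_iff_flat P rfl (hP _)).1 ((preservesMono_iff P j).2 fun M N g _ a b _ => ?_)
      haveI : Subsingleton ((CohIII.TFun P j).obj M) := h0 j (by omega) M
      exact Subsingleton.elim a b
    | succ k ih =>
      intro j hj
      by_cases hle : j ≤ p₀ + k
      · exact ih j hle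
      · have hC : Module.Flat A (Cok P (j - 1 + 1) (j - 1)) := ih (j - 1) (by omega)
        rw [sub_add_cancel] at hC
        haveI := flat_range P (hP _) hC
        exact Module.Flat.of_linearEquiv ((LinearEquiv.ofInjective _ (hker j)).trans
          (LinearEquiv.ofEq _ _ (range_dbar P (j + 1) j (j - 1))))
  obtain ⟨ι, hinj, hrange, -⟩ := exists_toCok P (rfl : j + 1 = j + 1) (sub_add_cancel j 1)
  have hC := hflat (j - 1)
  rw [sub_add_cancel] at hC
  haveI := hC
  have h2 : Function.Injective ((dbar P (j + 1) j (j - 1)).rTensor M) := by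
    let e := (LinearEquiv.ofInjective _ (hker j)).trans (LinearEquiv.ofEq _ _ (range_dbar P (j + 1) j (j - 1)))
    have hs : Function.Injective ((LinearMap.range (P.d j (j - 1)).hom).subtype.rTensor M) :=
      (LinearMap.lTensor_inj_iff_rTensor_inj _ _).1
        (LinearMap.lTensor_injective_of_exact_of_flat _ (Submodule.mkQ_surjective _) _
          (Submodule.injective_subtype _) (LinearMap.exact_subtype_mkQ _) M)
    have hd : dbar P (j + 1) j (j - 1) = (LinearMap.range (P.d j (j - 1)).hom).subtype ∘ₗ e.toLinearMap :=
      LinearMap.ext fun x => by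
        show _ = ((e x : LinearMap.range (P.d j (j - 1)).hom) : P.X (j - 1))
        simp only [e, LinearEquiv.trans_apply, LinearEquiv.coe_ofEq_apply, LinearEquiv.ofInjective_apply]
    rw [hd, LinearMap.rTensor_comp]
    exact hs.comp (e.rTensor M).injective
  refine ⟨fun a b => hinj M ?_⟩
  have ha : ι M a ∈ LinearMap.ker ((dbar P (j + 1) j (j - 1)).rTensor M) := hrange M ▸ ⟨a, rfl⟩
  have hb : ι M b ∈ LinearMap.ker ((dbar P (j + 1) j (j - 1)).rTensor M) := hrange M ▸ ⟨b, rfl⟩
  exact h2 (ha.trans hb.symm)

end Acyclic

section Reindex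

/-- The embedding of chains in cochains. -/
def negEmb : (ComplexShape.down ℤ).Embedding (ComplexShape.up ℤ) :=
  ComplexShape.Embedding.mk' _ _ (fun i => -i) (fun a b h => neg_injective h) (by intro i j; simp; omega)

instance : negEmb.IsRelIff := by dsimp [negEmb]; infer_instance

/-- A cochain complex as a chain complex. -/
abbrev toChain (P : DRing.Cx A) : ChainComplex (ModuleCat.{u} A) ℤ :=
  P.restriction negEmb

/-- The cohomology of a reindexed complex. -/
abbrev chainHIso (K : DRing.Cx A) (j : ℤ) : (toChain K).homology j ≅ K.homology (-j) :=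
  K.restrictionHomologyIso negEmb (j + 1) j (j - 1) (by simp) (by simp) (i' := -(j + 1)) (j' := -j)
    (k' := -(j - 1)) rfl rfl rfl (by simp; omega) (by simp; omega)

lemma chainHIso_naturality {K L : DRing.Cx A} (φ : K ⟶ L) (j : ℤ) :
    HomologicalComplex.homologyMap (HomologicalComplex.restrictionMap φ negEmb) j ≫ (chainHIso L j).hom =
      (chainHIso K j).hom ≫ HomologicalComplex.homologyMap φ (-j) := by
  rw [← cancel_epi ((toChain K).homologyπ j), HomologicalComplex.homologyπ_naturality_assoc,
    HomologicalComplex.homologyπ_restrictionHomologyIso_hom,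
    HomologicalComplex.homologyπ_restrictionHomologyIso_hom_assoc,
    HomologicalComplex.homologyπ_naturality, ← Category.assoc, ← Category.assoc]
  congr 1
  rw [← cancel_mono (L.iCycles (-j))]
  simp [HomologicalComplex.restrictionMap, HomologicalComplex.restrictionXIso]
  show _ ≫ φ.f (-j) ≫ 𝟙 _ = _ ≫ 𝟙 _ ≫ φ.f (-j)
  rw [Category.comp_id, Category.id_comp]

/-- Reindexing commutes with `H(- ⊗ M)`. -/
def TFunChainIso (P : DRing.Cx A) (j : ℤ) : CohIII.TFun (toChain P) j ≅ CohIII.TFun P (-j) :=
  NatIso.ofComponents (fun M => chainHIso (CohIII.tensorObj P M) j)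
    (fun {_ _} g => chainHIso_naturality (CohIII.tensorMap P g) j)

end Reindex

/-- A quasi-isomorphism of flat complexes, eventually universally exact, stays one after tensoring. -/
theorem isIso_homologyMap_whisker {P C : DRing.Cx A} (π : P ⟶ C) (hπ : IsIso (DerivedCategory.Q.map π))
    (hP : ∀ i, Module.Flat A (P.X i)) (hC : ∀ i, Module.Flat A (C.X i)) (d : ℤ)
    (hd : ∀ i, d ≤ i → ∀ M, (CohIII.tensorObj P M).ExactAt i ∧ (CohIII.tensorObj C M).ExactAt i)
    (M : ModuleCat.{u} A) (i : ℤ) :
    IsIso (HomologicalComplex.homologyMap (((tensorRight M).mapHomologicalComplex _).map π) i) := by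
  let E : DRing.Cx A := CochainComplex.mappingCone π
  haveI := hπ
  have hflat : ∀ j, Module.Flat A ((toChain E).X j) := fun j => by
    haveI := hP (-j + 1)
    haveI := hC (-j)
    haveI : Module.Flat A (ModuleCat.of A (P.X (-j + 1) × C.X (-j))) :=
      flat_prod (P.X (-j + 1)) (C.X (-j))
    exact Module.Flat.of_linearEquiv
      ((HomologicalComplex.homotopyCofiber.XIsoBiprod π (-j) _ rfl) ≪≫ ModuleCat.biprodIsoProd _ _).toLinearEquiv
  have hE : ∀ j, E.ExactAt j := fun j =>
    (DRingKProj.isoAbove_Q_map_iff (j) π).1 (DRingKProj.IsoAbove.of_isIso _ _) j le_rfl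
  have hex : ∀ j, (toChain E).ExactAt j := fun j => by
    rw [HomologicalComplex.exactAt_iff_isZero_homology]
    exact ((HomologicalComplex.exactAt_iff_isZero_homology _ _).1 (hE (-j))).of_iso (chainHIso E j)
  have hcone : ∀ (N : ModuleCat.{u} A) (j : ℤ), d ≤ j → IsZero (CohIII.T E j N) := fun N j hj => by
    refine ((HomologicalComplex.exactAt_iff_isZero_homology _ _).1
      (exactAt_cone (((tensorRight N).mapHomologicalComplex _).map π) j (hd j hj N).2
        (hd (j + 1) (by omega) N).1)).of_iso ?_
    exact HomologicalComplex.homologyMapIso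
      (CochainComplex.mappingCone.mapHomologicalComplexIso π (tensorRight N)) j
  have hall : ∀ j, (CochainComplex.mappingCone (((tensorRight M).mapHomologicalComplex _).map π)).ExactAt j := by
    intro j
    rw [HomologicalComplex.exactAt_iff_isZero_homology]
    haveI hs : Subsingleton ((CohIII.TFun (toChain E) (-j)).obj M) := subsingleton_T_of_exact (toChain E) hflat hex (-d)
      (fun k hk N => ModuleCat.subsingleton_of_isZero ((hcone N (-k) (by omega)).of_iso ((TFunChainIso E k).app N)))
      (-j) M
    have hz : IsZero ((CohIII.TFun E (- -j)).obj M) :=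
      (ModuleCat.isZero_of_subsingleton _).of_iso ((TFunChainIso E (-j)).app M).symm
    rw [neg_neg] at hz
    exact hz.of_iso (HomologicalComplex.homologyMapIso
      (CochainComplex.mappingCone.mapHomologicalComplexIso π (tensorRight M)) j).symm
  exact ((DRingKProj.isoAbove_Q_map_iff_homologyMap (i - 1) _).1
    ((DRingKProj.isoAbove_Q_map_iff (i - 1) _).2 fun j _ => hall j)).1 i (by omega)

/-- A finite free model of a flat complex with finitely generated cohomology, eventually universally exact. -/
theorem exists_finiteFree_model [IsNoetherianRing A] (C : DRing.Cx A) (hC : ∀ i, Module.Flat A (C.X i))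
    (hfin : ∀ i, Module.Finite A (C.homology i)) (d : ℤ) (hself : ∀ i, d < i → C.ExactAt i)
    (hd : ∀ i, d < i → ∀ M, (CohIII.tensorObj C M).ExactAt i) :
    ∃ P : DRing.Cx A, DRing.TermwiseFiniteFree P ∧ DRing.VanishesAbove P d ∧
      ∀ i, Nonempty (CohIII.TFun P i ≅ CohIII.TFun C i) := by
  obtain ⟨P, π, hb, hfree, hiso⟩ :=
    DRingKProj.exists_finiteFree_resolution (K := C) (b := d) hself (coneFinite C d hfin)
  refine ⟨P, hfree, hb, fun i => ?_⟩
  have hPflat : ∀ j, Module.Flat A (P.X j) := fun j => by
    haveI := (hfree j).2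
    infer_instance
  have hI := fun M => isIso_homologyMap_whisker π hiso hPflat hC (d + 1)
    (fun j hj N => ⟨ShortComplex.exact_of_isZero_X₂ _ ((tensorRight N).map_isZero (hb j (by omega))),
      hd j (by omega) N⟩) M i
  exact ⟨NatIso.ofComponents
    (fun M => @asIso _ _ _ _ (HomologicalComplex.homologyMap (((tensorRight M).mapHomologicalComplex _).map π) i) (hI M))
    (fun {M N} g => by
      show HomologicalComplex.homologyMap (CohIII.tensorMap P g) i ≫ _ =
        _ ≫ HomologicalComplex.homologyMap (CohIII.tensorMap C g) i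
      simp only [asIso_hom, ← HomologicalComplex.homologyMap_comp]
      exact congrArg (fun t => HomologicalComplex.homologyMap t i)
        ((NatTrans.mapHomologicalComplex ((tensoringRight (ModuleCat.{u} A)).map g) _).naturality π).symm)⟩

end Groth.Agent.BCModel
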