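import Groth.Agent.BCModel.TensorFun

/-!
# Eilenberg-Watts for complexes
-/

noncomputable section

universe u

open CategoryTheory MonoidalCategory Limits Opposite
open scoped TensorProduct

namespace Groth.Agent.BCModel

variable {A : Type u} [CommRing A]

lemma ell_comp {M N : ModuleCat.{u} A} (m : M) (φ : M ⟶ N) : ell m ≫ φ = ell (φ m) :=
  ModuleCat.hom_ext (LinearMap.ext_ring (by show φ ((1 : A) • m) = (1 : A) • φ m; rw [one_smul, one_smul]))

lemma ell_add {M : ModuleCat.{u} A} (m m' : M) : ell (m + m') = ell m + ell m' :=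
  ModuleCat.hom_ext (LinearMap.ext_ring (by show (1 : A) • (m + m') = (1 : A) • m + (1 : A) • m'; rw [smul_add]))

lemma ell_zero (M : ModuleCat.{u} A) : ell (0 : M) = 0 :=
  ModuleCat.hom_ext (LinearMap.ext_ring (by show (1 : A) • (0 : M) = 0; rw [smul_zero]))

lemma ell_smul {M : ModuleCat.{u} A} (a : A) (m : M) : ell (a • m) = ell (M := ModuleCat.of A A) a ≫ ell m := by
  refine ModuleCat.hom_ext (LinearMap.ext_ring ?_)
  show (1 : A) • (a • m) = (((1 : A) • a : A)) • m
  rw [one_smul, smul_eq_mul, one_mul]

lemma ell_one : ell (M := ModuleCat.of A A) (1 : A) = 𝟙 _ :=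
  ModuleCat.hom_ext (LinearMap.ext_ring (one_smul A _))

section Deg

variable (K : ModuleCat.{u} A ⥤ AddCommGrpCat.{u}) [K.Additive]

/-- The module structure on the value at `A`. -/
@[reducible]
def valModule : Module A (K.obj (ModuleCat.of A A)) where
  smul a c := K.map (ell (M := ModuleCat.of A A) a) c
  one_smul c := by
    show K.map (ell (M := ModuleCat.of A A) (1 : A)) c = c
    rw [ell_one, CategoryTheory.Functor.map_id]; rfl
  mul_smul a b c := by
    show K.map (ell (M := ModuleCat.of A A) (a * b)) c = K.map _ (K.map _ c)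
    rw [← ConcreteCategory.comp_apply, ← K.map_comp, ← ell_smul, smul_eq_mul, mul_comm]
  smul_zero a := map_zero _
  smul_add a := map_add _
  add_smul a b c := by
    show K.map (ell (M := ModuleCat.of A A) (a + b)) c = _
    rw [ell_add, K.map_add]; rfl
  zero_smul c := by
    show K.map (ell (M := ModuleCat.of A A) (0 : A)) c = 0
    rw [ell_zero, K.map_zero]; rfl

/-- The value at `A`. -/
def val : ModuleCat.{u} A :=
  letI := valModule K
  ModuleCat.of A (K.obj (ModuleCat.of A A))

lemma val_smul (a : A) (c : val K) :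
    a • c = K.map (ell (M := ModuleCat.of A A) a) c := rfl

/-- The comparison map. -/
def cmp (M : ModuleCat.{u} A) : (val K ⊗[A] M) →+ K.obj M :=
  TensorProduct.liftAddHom
    (AddMonoidHom.mk' (fun c : val K => AddMonoidHom.mk' (fun m : M => (show K.obj M from K.map (ell m) c))
      (fun m m' => by rw [ell_add, K.map_add]; rfl))
      (fun c c' => AddMonoidHom.ext fun m => map_add (K.map (ell m)).hom c c'))
    (fun a c m => by
      show K.map (ell m) (K.map (ell (M := ModuleCat.of A A) a) c) = K.map (ell (a • m)) c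
      rw [ell_smul, K.map_comp]; rfl)

lemma cmp_tmul (M : ModuleCat.{u} A) (c : val K) (m : M) : cmp K M (c ⊗ₜ m) = K.map (ell m) c := rfl

lemma cmp_natural {M N : ModuleCat.{u} A} (φ : M ⟶ N) (z : val K ⊗[A] M) :
    cmp K N (φ.hom.lTensor (val K) z) = K.map φ (cmp K M z) := by
  induction z using TensorProduct.induction_on with
  | zero => simp
  | tmul c m =>
    rw [LinearMap.lTensor_tmul, cmp_tmul, cmp_tmul, ← ConcreteCategory.comp_apply, ← K.map_comp,
      ell_comp]
  | add a b ha hb => rw [map_add, map_add, map_add, map_add, ha, hb]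

/-- Finite support of the values on free modules. -/
def FinSupp : Prop :=
  ∀ (I : Type u) (s : K.obj (ModuleCat.of A (I →₀ A))), ∃ J : Finset I,
    s = ∑ i ∈ J, K.map (ell (M := ModuleCat.of A (I →₀ A)) (Finsupp.single i (1 : A)))
      (K.map (ModuleCat.ofHom (Finsupp.lapply i)) s)

lemma cmp_bijective_free (hK : FinSupp K) (I : Type u) :
    Function.Bijective (cmp K (ModuleCat.of A (I →₀ A))) := by
  classical
  refine ⟨(injective_iff_map_eq_zero _).2 fun z hz => ?_, fun s => ?_⟩
  · apply (TensorProduct.finsuppScalarRight A A (val K) I).injective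
    rw [map_zero]
    refine Finsupp.ext fun i => ?_
    have h1 : cmp K (ModuleCat.of A A) ((Finsupp.lapply i : (I →₀ A) →ₗ[A] A).lTensor (val K) z) = 0 := by
      have := cmp_natural K (ModuleCat.ofHom (Finsupp.lapply (R := A) (M := A) i) :
        ModuleCat.of A (I →₀ A) ⟶ ModuleCat.of A A) z
      rw [hz, map_zero] at this
      exact this
    have h2 : ∀ w : val K ⊗[A] (I →₀ A), (show K.obj (ModuleCat.of A A) from
        (TensorProduct.finsuppScalarRight A A (val K) I w) i) =
        cmp K (ModuleCat.of A A) ((Finsupp.lapply i : (I →₀ A) →ₗ[A] A).lTensor (val K) w) := by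
      intro w
      induction w using TensorProduct.induction_on with
      | zero => simp; rfl
      | tmul c m =>
        rw [LinearMap.lTensor_tmul, cmp_tmul, TensorProduct.finsuppScalarRight_apply_tmul_apply]
        rfl
      | add a b ha hb =>
        rw [map_add (TensorProduct.finsuppScalarRight A A (val K) I), Finsupp.add_apply,
          map_add ((Finsupp.lapply i : (I →₀ A) →ₗ[A] A).lTensor (val K)), map_add]
        exact congrArg₂ (· + ·) ha hb
    exact (h2 z).trans h1
  · obtain ⟨J, hJ⟩ := hK I s
    exact ⟨∑ i ∈ J, (show val K from K.map (ModuleCat.ofHom (Finsupp.lapply i)) s) ⊗ₜ[A]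
      (Finsupp.single i (1 : A)), by rw [map_sum]; exact hJ.symm⟩

/-- The comparison is bijective for a right exact functor with finite supports. -/
lemma cmp_bijective (hK : FinSupp K)
    (hepi : ∀ S : ShortComplex (ModuleCat.{u} A), S.Exact → Epi S.g → (S.map K).Exact ∧ Epi (S.map K).g)
    (M : ModuleCat.{u} A) : Function.Bijective (cmp K M) := by
  obtain ⟨I₁, I₀, d, π, w, hπ, hex⟩ := exists_freePresentation M
  obtain ⟨h₁, h₂⟩ := hepi _ hex hπ
  have hKs : Function.Surjective (K.map π) := (AddCommGrpCat.epi_iff_surjective _).1 h₂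
  have hKe := (ShortComplex.ab_exact_iff _).1 h₁
  have hs : Function.Surjective (π.hom.lTensor (val K)) :=
    LinearMap.lTensor_surjective _ ((ModuleCat.epi_iff_surjective _).1 hπ)
  refine ⟨(injective_iff_map_eq_zero _).2 fun z hz => ?_, fun y => ?_⟩
  · obtain ⟨z', rfl⟩ := hs z
    rw [cmp_natural] at hz
    obtain ⟨y, hy⟩ := hKe _ hz
    obtain ⟨z'', rfl⟩ := (cmp_bijective_free K hK I₁).2 y
    have he : d.hom.lTensor (val K) z'' = z' :=
      (cmp_bijective_free K hK I₀).1 ((cmp_natural K d z'').trans hy)
    rw [← he, ← LinearMap.comp_apply, ← LinearMap.lTensor_comp,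
      show π.hom ∘ₗ d.hom = 0 from congrArg ModuleCat.Hom.hom w, LinearMap.lTensor_zero]
    rfl
  · obtain ⟨y', rfl⟩ := hKs y
    obtain ⟨z, rfl⟩ := (cmp_bijective_free K hK I₀).2 y'
    exact ⟨_, cmp_natural K π z⟩

end Deg

variable {J : Type} {c : ComplexShape J} (K : ModuleCat.{u} A ⥤ HomologicalComplex AddCommGrpCat.{u} c)
  [∀ n, (K ⋙ HomologicalComplex.eval _ c n).Additive]

/-- The degree functors. -/
abbrev deg (n : J) : ModuleCat.{u} A ⥤ AddCommGrpCat.{u} := K ⋙ HomologicalComplex.eval _ c n

/-- The differential between values at `A`. -/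
def valD (i j : J) : val (deg K i) →ₗ[A] val (deg K j) where
  toFun x := (K.obj (ModuleCat.of A A)).d i j x
  map_add' x y := map_add ((K.obj (ModuleCat.of A A)).d i j).hom x y
  map_smul' a x := by
    show (K.obj _).d i j ((K.map (ell (M := ModuleCat.of A A) a)).f i x) =
      (K.map (ell (M := ModuleCat.of A A) a)).f j ((K.obj _).d i j x)
    rw [← ConcreteCategory.comp_apply, ← ConcreteCategory.comp_apply, HomologicalComplex.Hom.comm]

/-- The complex of values at `A`. -/
def valCx : HomologicalComplex (ModuleCat.{u} A) c where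
  X n := val (deg K n)
  d i j := ModuleCat.ofHom (X := val (deg K i)) (Y := val (deg K j)) (valD K i j)
  shape i j h := ModuleCat.hom_ext (LinearMap.ext fun x => ConcreteCategory.congr_hom
    ((K.obj (ModuleCat.of A A)).shape i j h) x)
  d_comp_d' i j k _ _ := ModuleCat.hom_ext (LinearMap.ext fun x => ConcreteCategory.congr_hom
    ((K.obj (ModuleCat.of A A)).d_comp_d i j k) x)

/-- The comparison in one degree. -/
def cmpDegIso (n : J) (M : ModuleCat.{u} A) (h : Function.Bijective (cmp (deg K n) M)) :
    ((forget₂ (ModuleCat.{u} A) AddCommGrpCat.{u}).mapHomologicalComplex c |>.obj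
      (CohIII.tensorObj (valCx K) M)).X n ≅ (K.obj M).X n :=
  AddEquiv.toAddCommGrpIso
    (X := ((forget₂ (ModuleCat.{u} A) AddCommGrpCat.{u}).mapHomologicalComplex c |>.obj
      (CohIII.tensorObj (valCx K) M)).X n) (Y := (K.obj M).X n)
    { toEquiv := Equiv.ofBijective _ h
      map_add' := (cmp (deg K n) M).map_add }

lemma cmpDegIso_apply (n : J) (M : ModuleCat.{u} A) (h : Function.Bijective (cmp (deg K n) M))
    (z : val (deg K n) ⊗[A] M) : (cmpDegIso K n M h).hom z = cmp (deg K n) M z := rfl

/-- The comparison of complexes. -/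
theorem nonempty_cmpIso (hK : ∀ n, FinSupp (deg K n))
    (hepi : ∀ n (S : ShortComplex (ModuleCat.{u} A)), S.Exact → Epi S.g →
      (S.map (deg K n)).Exact ∧ Epi (S.map (deg K n)).g) (p : J) :
    Nonempty (CohIII.TFun (valCx K) p ⋙ forget₂ (ModuleCat.{u} A) AddCommGrpCat.{u} ≅
      K ⋙ HomologicalComplex.homologyFunctor AddCommGrpCat.{u} c p) := by
  let G := forget₂ (ModuleCat.{u} A) AddCommGrpCat.{u}
  let e : ∀ M, (G.mapHomologicalComplex c).obj (CohIII.tensorObj (valCx K) M) ≅ K.obj M := fun M =>
    HomologicalComplex.Hom.isoOfComponents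
      (fun n => cmpDegIso K n M (cmp_bijective _ (hK n) (hepi n) M))
      (fun i j _ => AddCommGrpCat.ext fun (z : val (deg K i) ⊗[A] M) => by
        change (K.obj M).d i j (cmp (deg K i) M z) = cmp (deg K j) M ((valD K i j).rTensor M z)
        induction z using TensorProduct.induction_on with
        | zero => rw [map_zero, map_zero, map_zero]; exact map_zero ((K.obj M).d i j).hom
        | tmul x m =>
          show (K.obj M).d i j ((K.map (ell m)).f i x) =
            (K.map (ell m)).f j ((K.obj (ModuleCat.of A A)).d i j x)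
          rw [← ConcreteCategory.comp_apply, ← ConcreteCategory.comp_apply, HomologicalComplex.Hom.comm]
        | add a b ha hb =>
          rw [map_add (cmp (deg K i) M), map_add ((valD K i j).rTensor M), map_add (cmp (deg K j) M)]
          exact ((map_add ((K.obj M).d i j).hom _ _).trans (congrArg₂ (· + ·) ha hb)))
  refine ⟨NatIso.ofComponents (fun M =>
    (ShortComplex.mapHomologyIso ((CohIII.tensorObj (valCx K) M).sc p) G).symm ≪≫
      HomologicalComplex.homologyMapIso (e M) p) (fun {M N} φ => ?_)⟩
  have h1 : (G.mapHomologicalComplex c).map (CohIII.tensorMap (valCx K) φ) ≫ (e N).hom =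
      (e M).hom ≫ K.map φ := by
    refine HomologicalComplex.hom_ext _ _ fun n => AddCommGrpCat.ext fun z => ?_
    exact cmp_natural (deg K n) φ z
  have h2 := ShortComplex.mapHomologyIso_inv_naturality
    ((HomologicalComplex.shortComplexFunctor _ c p).map (CohIII.tensorMap (valCx K) φ)) G
  show G.map (HomologicalComplex.homologyMap (CohIII.tensorMap (valCx K) φ) p) ≫ _ ≫ _ =
    (_ ≫ _) ≫ HomologicalComplex.homologyMap (K.map φ) p
  rw [Category.assoc]
  refine ((reassoc_of% h2) _).trans ?_
  refine congrArg (_ ≫ ·) ?_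
  exact (HomologicalComplex.homologyMap_comp _ _ _).symm.trans
    ((congrArg (fun t => HomologicalComplex.homologyMap t p) h1).trans (HomologicalComplex.homologyMap_comp _ _ _))

end Groth.Agent.BCModel
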