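import Groth.Agent.BCModel.CechNat
import Groth.Agent.BCModel.EW

/-!
# The flat complex computing cohomology after tensoring
-/

noncomputable section

set_option backward.isDefEq.respectTransparency false

universe u

open CategoryTheory Limits AlgebraicGeometry Opposite TopologicalSpace
open scoped TensorProduct

namespace Groth.Agent.BCModel

open Groth.Agent.QCohBase

variable {A : Type u} [CommRing A] {X : Scheme.{u}} [X.Over (Spec (CommRingCat.of A))]
  (F : X.Modules) {ι : Type u} (V : ι → X.Opens)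

variable (A) in
/-- The Cech complexes of `F ⊗_A M`. -/
abbrev cechTF : ModuleCat.{u} A ⥤ CochainComplex AddCommGrpCat.{u} ℕ := TF (A := A) F ⋙ cechMod V

instance additive_cechTF (n : ℕ) :
    (cechTF A F V ⋙ HomologicalComplex.eval AddCommGrpCat.{u} (ComplexShape.up ℕ) n).Additive := by
  haveI : (SheafOfModules.toSheaf X.ringCatSheaf).Additive := inferInstance
  haveI : (cechMod (X := X) V).Additive := Functor.instAdditiveComp _ _
  infer_instance

lemma cechTF_map_apply {M N : ModuleCat.{u} A} (φ : M ⟶ N) (n : ℕ)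
    (s : ((cechTF A F V).obj M).X n) (i : Fin (n + 1) → ι) :
    ((cechTF A F V).map φ).f n s i = ((TF F).map φ).app (inter V i) (s i) := rfl

variable {F V}

lemma finSupp_cechTF [Finite ι] (hV : ∀ (n : ℕ) (i : Fin (n + 1) → ι), IsAffineOpen (inter V i)) (n : ℕ) :
    FinSupp (deg (cechTF A F V) n) := by
  classical
  intro I s
  haveI := Fintype.ofFinite ι
  choose J hJ using fun i : Fin (n + 1) → ι => free_sections (F := F) (hV n i).isCompact (s i)
  refine ⟨Finset.univ.biUnion J, funext fun i => ?_⟩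
  refine (hJ i).trans (Eq.trans ?_ (map_sum (Pi.evalAddMonoidHom (fun i : Fin (n + 1) → ι => Γ((TF F).obj (ModuleCat.of A (I →₀ A)), inter V i)) i) _ _).symm)
  refine Finset.sum_subset (Finset.subset_biUnion_of_mem J (Finset.mem_univ i)) fun j _ hj => ?_
  have h : ((TF F).map (ModuleCat.ofHom (Finsupp.lapply (R := A) (M := A) j))).app (inter V i) (s i) = 0 := by
    conv_lhs => rw [hJ i]
    exact (free_coord_sum (F := F) _ (J i) _ j).trans (if_neg hj)
  rw [h, map_zero]

/-- The degrees of the Cech functor are exact. -/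
lemma shortExact_cechTF (hF : Coh.IsQCoh F) (hfl : FlatMod.IsFlatOver (X ↘ Spec (CommRingCat.of A)) F)
    (hV : ∀ (n : ℕ) (i : Fin (n + 1) → ι), IsAffineOpen (inter V i)) (n : ℕ)
    {S : ShortComplex (ModuleCat.{u} A)} (hS : S.ShortExact) :
    (S.map (deg (cechTF A F V) n)).ShortExact := by
  have hT := shortExact_map_TF hfl hS
  haveI := hT.mono_f
  haveI := hT.epi_g
  refine { exact := ?_, mono_f := ?_, epi_g := ?_ }
  · rw [ShortComplex.ab_exact_iff]
    intro s hs
    choose t ht using fun i : Fin (n + 1) → ι =>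
      sections_exact_left hT.exact (U := inter V i) (s i) (congrFun hs i)
    exact ⟨t, funext ht⟩
  · rw [AddCommGrpCat.mono_iff_injective]
    exact fun s t h => funext fun i => app_injective_of_mono (S.map (TF F)).f (inter V i) (congrFun h i)
  · rw [AddCommGrpCat.epi_iff_surjective]
    intro s
    choose t ht using fun i : Fin (n + 1) → ι =>
      app_surjective_of_epi (S.map (TF F)).g (isQCoh_TF hF hfl _) (isQCoh_TF hF hfl _) (hV n i) (s i)
    exact ⟨t, funext ht⟩

lemma exact_cechTF (hF : Coh.IsQCoh F) (hfl : FlatMod.IsFlatOver (X ↘ Spec (CommRingCat.of A)) F)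
    (hV : ∀ (n : ℕ) (i : Fin (n + 1) → ι), IsAffineOpen (inter V i)) (n : ℕ) :
    PreservesFiniteLimits (deg (cechTF A F V) n) ∧ PreservesFiniteColimits (deg (cechTF A F V) n) :=
  ((deg (cechTF A F V) n).exact_tfae.out 0 3 rfl rfl).1 fun _ hS => shortExact_cechTF hF hfl hV n hS

lemma cmp_bijective_cechTF [Finite ι] (hF : Coh.IsQCoh F)
    (hfl : FlatMod.IsFlatOver (X ↘ Spec (CommRingCat.of A)) F)
    (hV : ∀ (n : ℕ) (i : Fin (n + 1) → ι), IsAffineOpen (inter V i)) (n : ℕ) (M : ModuleCat.{u} A) :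
    Function.Bijective (cmp (deg (cechTF A F V) n) M) :=
  cmp_bijective _ (finSupp_cechTF hV n)
    (fun S hS hg => ((deg (cechTF A F V) n).preservesFiniteColimits_tfae.out 3 1 rfl rfl).1
      (exact_cechTF hF hfl hV n).2 S ⟨hS, hg⟩) M

/-- The complex is degreewise flat. -/
theorem flat_valCx_cechTF [Finite ι] (hF : Coh.IsQCoh F)
    (hfl : FlatMod.IsFlatOver (X ↘ Spec (CommRingCat.of A)) F)
    (hV : ∀ (n : ℕ) (i : Fin (n + 1) → ι), IsAffineOpen (inter V i)) (n : ℕ) :
    Module.Flat A ((valCx (cechTF A F V)).X n) := by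
  rw [Module.Flat.iff_lTensor_preserves_injective_linearMap]
  intro N N' _ _ _ _ g hg
  haveI := (exact_cechTF hF hfl hV n).1
  haveI : Mono (ModuleCat.ofHom g) := (ModuleCat.mono_iff_injective _).2 hg
  intro a b hab
  have h : Function.Injective ((deg (cechTF A F V) n).map (ModuleCat.ofHom g)) :=
    (AddCommGrpCat.mono_iff_injective _).1 inferInstance
  refine (cmp_bijective_cechTF hF hfl hV n (ModuleCat.of A N)).1 (h ?_)
  refine (cmp_natural (deg (cechTF A F V) n) (ModuleCat.ofHom g) a).symm.trans (Eq.trans ?_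
    (cmp_natural (deg (cechTF A F V) n) (ModuleCat.ofHom g) b))
  exact congrArg (cmp (deg (cechTF A F V) n) (ModuleCat.of A N')) hab

/-- The complex computes the cohomology of `F ⊗_A M`. -/
theorem nonempty_valCx_iso [Finite ι] (hF : Coh.IsQCoh F)
    (hfl : FlatMod.IsFlatOver (X ↘ Spec (CommRingCat.of A)) F) (hcov : ⨆ k, V k = ⊤)
    (hV : ∀ (n : ℕ) (i : Fin (n + 1) → ι), IsAffineOpen (inter V i)) (p : ℕ) :
    Nonempty (CohIII.TFun (valCx (cechTF A F V)) p ⋙ forget₂ (ModuleCat.{u} A) AddCommGrpCat.{u} ≅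
      TF F ⋙ SheafOfModules.toSheaf X.ringCatSheaf ⋙
        CategoryTheory.Sheaf.functorH (Opens.grothendieckTopology X) p) := by
  obtain ⟨e₁⟩ := nonempty_cmpIso (cechTF A F V) (finSupp_cechTF hV)
    (fun n S hS hg => ((deg (cechTF A F V) n).preservesFiniteColimits_tfae.out 3 1 rfl rfl).1
      (exact_cechTF hF hfl hV n).2 S ⟨hS, hg⟩) p
  obtain ⟨e₂⟩ := nonempty_cechMod_homology_iso V (TF (A := A) F) (isQCoh_TF hF hfl) hcov hV p
  exact ⟨e₁ ≪≫ e₂⟩

end Groth.Agent.BCModel
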