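import Groth.Agent.QCohBase.Criterion
import Groth.Agent.QCohBase.Acyclic
import Groth.Prelude.Def_Coh
import Mathlib.Algebra.Homology.HomologySequenceLemmas

/-!
# The Cech comparison, natural in the sheaf
-/

noncomputable section

universe u

open CategoryTheory Limits TopologicalSpace Opposite HomologicalComplex AlgebraicGeometry

namespace Groth.Agent.BCModel

open Groth.Agent.QCohBase Groth.Agent.QCohBase.CovSystem

section

variable {X : TopCat.{u}} (S : CovSystem X) {ι : Type u} (V : ι → Opens X)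

/-- The Cech comparison, naturally in acyclic sheaves. -/
theorem exists_cech_natEquiv (hcov : ⨆ k, V k = ⊤)
    (hV : ∀ (n : ℕ) (i : Fin (n + 1) → ι), S.B (inter V i)) (p : ℕ) :
    ∃ e : ∀ (F : {F : AbSheaf X // S.Acyclic F}), ((cech V F.1.obj).homology p ≃+ HTop F.1 p),
      ∀ (F G : {F : AbSheaf X // S.Acyclic F}) (φ : F.1 ⟶ G.1)
        (x : (cech V F.1.obj).homology p),
        e G (homologyMap ((cechSheafFunctor V).map φ) p x) =
          CategoryTheory.Sheaf.H.map φ p (e F x) := by
  induction p with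
  | zero =>
    refine ⟨fun F =>
      (AddEquiv.ofBijective _ (sectionsToCech_bijective V hcov F.1)).symm.trans (hZero F.1).symm,
      fun F G φ x => ?_⟩
    obtain ⟨F, _⟩ := F
    obtain ⟨G, _⟩ := G
    obtain ⟨s, rfl⟩ := (sectionsToCech_bijective V hcov F).2 x
    have h := ConcreteCategory.congr_hom (sectionsToCech_naturality V φ.hom) s
    simp only [ConcreteCategory.comp_apply] at h
    have h' : homologyMap ((cechSheafFunctor V).map φ) 0 (sectionsToCech V F.obj s) =
        sectionsToCech V G.obj (φ.hom.app (op ⊤) s) := h.symm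
    simp only [AddEquiv.trans_apply]
    rw [h', show (AddEquiv.ofBijective _ (sectionsToCech_bijective V hcov G)).symm
        (sectionsToCech V G.obj (φ.hom.app (op ⊤) s)) = φ.hom.app (op ⊤) s from
        AddEquiv.symm_apply_apply (AddEquiv.ofBijective _ (sectionsToCech_bijective V hcov G)) _,
      show (AddEquiv.ofBijective _ (sectionsToCech_bijective V hcov F)).symm
        (sectionsToCech V F.obj s) = s from
        AddEquiv.symm_apply_apply (AddEquiv.ofBijective _ (sectionsToCech_bijective V hcov F)) _]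
    exact (CategoryTheory.Sheaf.H.equiv₀_symm_naturality isTerminalTop φ s).symm
  | succ p ih =>
    have hT := fun F : AbSheaf X => injSeq_shortExact F
    have hC := fun (F : AbSheaf X) (hF : S.Acyclic F) => cech_shortExact (hT F) hF V hV
    have hzero : ∀ (F : AbSheaf X) q, IsZero ((cech V (injSeq F).X₂.obj).homology (q + 1)) := fun F q =>
      (exactAt_iff_isZero_homology _ _).1 (cechAcyclic_of_injective V (injSeq F).X₂ q)
    have hext : ∀ {F G : AbSheaf X} (φ : F ⟶ G), ∃ f : injSeq F ⟶ injSeq G, f.τ₁ = φ := by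
      intro F G φ
      haveI : Mono (injSeq F).f := (hT F).mono_f
      let φ₂ : (injSeq F).X₂ ⟶ (injSeq G).X₂ :=
        Injective.factorThru (φ ≫ (injSeq G).f) (injSeq F).f
      have h₂ : (injSeq F).f ≫ φ₂ = φ ≫ (injSeq G).f := Injective.comp_factorThru _ _
      exact ⟨ShortComplex.homMk φ φ₂ (cokernel.map (Injective.ι F) (Injective.ι G) φ φ₂ h₂) h₂.symm
        (cokernel.π_desc _ _ _).symm, rfl⟩
    have hδ : ∀ {F G : AbSheaf X} (q : ℕ) (f : injSeq F ⟶ injSeq G) (x : HTop (injSeq F).X₃ q),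
        hDelta (hT G) q (CategoryTheory.Sheaf.H.map f.τ₃ q x) =
          CategoryTheory.Sheaf.H.map f.τ₁ (q + 1) (hDelta (hT F) q x) := by
      intro F G q f x
      show Abelian.Ext.comp (Abelian.Ext.comp x (Abelian.Ext.mk₀ f.τ₃) (add_zero q)) (hT G).extClass rfl =
        Abelian.Ext.comp (Abelian.Ext.comp x (hT F).extClass rfl) (Abelian.Ext.mk₀ f.τ₁) (add_zero (q + 1))
      rw [Abelian.Ext.comp_assoc _ _ _ _ _ (by omega),
        Abelian.Ext.comp_assoc _ _ _ _ (add_zero 1) (by omega)]
      congr 1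
      exact (ShortComplex.ShortExact.extClass_naturality (hT F) (hT G) f).symm
    have hδC : ∀ {F G : AbSheaf X} (hF : S.Acyclic F) (hG : S.Acyclic G) (q : ℕ)
        (f : injSeq F ⟶ injSeq G) (x : (cech V (injSeq F).X₃.obj).homology q),
        (hC G hG).δ q (q + 1) rfl (homologyMap ((cechSheafFunctor V).map f.τ₃) q x) =
          homologyMap ((cechSheafFunctor V).map f.τ₁) (q + 1) ((hC F hF).δ q (q + 1) rfl x) :=
      fun {F G} hF hG q f x => (ConcreteCategory.congr_hom
        (HomologicalComplex.HomologySequence.δ_naturality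
          ((cechSheafFunctor V).mapShortComplex.map f) (hC F hF) (hC G hG) q (q + 1) rfl) x).symm
    cases p with
    | succ q =>
      obtain ⟨e, he⟩ := ih
      let δe := fun (F : AbSheaf X) (hF : S.Acyclic F) => ((hC F hF).δIso (q + 1) (q + 2) rfl (hzero F q) (hzero F _))
      refine ⟨fun F => (δe F.1 F.2).symm.addCommGroupIsoToAddEquiv.trans
        ((e ⟨(injSeq F.1).X₃, acyclic_cokernel (hT F.1) F.2⟩).trans (AddEquiv.ofBijective (hDelta (hT F.1) (q + 1))
          ⟨hDelta_injective (hT F.1) q, hDelta_surjective (hT F.1) (q + 1)⟩)), fun F G φ x => ?_⟩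
      obtain ⟨F, hF⟩ := F
      obtain ⟨G, hG⟩ := G
      obtain ⟨f, rfl⟩ := hext φ
      obtain ⟨y, rfl⟩ : ∃ y, (δe F hF).hom y = x := ⟨(δe F hF).inv x, by
        rw [← ConcreteCategory.comp_apply, Iso.inv_hom_id]; rfl⟩
      have h1 : (δe F hF).inv ((δe F hF).hom y) = y := by
        rw [← ConcreteCategory.comp_apply, Iso.hom_inv_id]; rfl
      have h2 : (δe G hG).inv (homologyMap ((cechSheafFunctor V).map f.τ₁) (q + 2) ((δe F hF).hom y)) =
          homologyMap ((cechSheafFunctor V).map f.τ₃) (q + 1) y := by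
        rw [show homologyMap ((cechSheafFunctor V).map f.τ₁) (q + 2) ((δe F hF).hom y) =
          (δe G hG).hom (homologyMap ((cechSheafFunctor V).map f.τ₃) (q + 1) y) from
            (hδC hF hG (q + 1) f y).symm,
          ← ConcreteCategory.comp_apply, Iso.hom_inv_id]
        rfl
      refine (congrArg (hDelta (hT G) (q + 1)) ((congrArg (e ⟨(injSeq G).X₃, acyclic_cokernel (hT G) hG⟩) h2).trans
        (he ⟨(injSeq F).X₃, acyclic_cokernel (hT F) hF⟩ ⟨(injSeq G).X₃, acyclic_cokernel (hT G) hG⟩ f.τ₃ y))).trans ?_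
      refine (hδ (q + 1) f _).trans ?_
      exact congrArg (CategoryTheory.Sheaf.H.map f.τ₁ (q + 2)) (congrArg (hDelta (hT F) (q + 1))
        (congrArg (e ⟨(injSeq F).X₃, acyclic_cokernel (hT F) hF⟩) h1.symm))
    | zero =>
      let δC := fun (F : AbSheaf X) (hF : S.Acyclic F) => (hC F hF).δ 0 1 rfl
      let ψ₁ := fun (F : AbSheaf X) (hF : S.Acyclic F) => ((sectionsToCech V (injSeq F).X₃.obj ≫ δC F hF).hom :
        (injSeq F).X₃.obj.obj (op ⊤) →+ (cech V F.obj).homology 1)
      let ψ₂ := fun F => ((hDelta (hT F) 0).comp (hZero (injSeq F).X₃).symm.toAddMonoidHom :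
        (injSeq F).X₃.obj.obj (op ⊤) →+ HTop F 1)
      have hψ₁ : ∀ F hF, Function.Surjective (ψ₁ F hF) := fun F hF x => by
        obtain ⟨y, rfl⟩ := (ShortComplex.ab_exact_iff _).1 ((hC F hF).homology_exact₁ 0 1 rfl) x
          (ConcreteCategory.congr_hom
            ((hzero F 0).eq_of_tgt (homologyMap ((injSeq F).map (cechSheafFunctor V)).f 1) 0) x)
        obtain ⟨z, rfl⟩ := (sectionsToCech_bijective V hcov (injSeq F).X₃).2 y
        exact ⟨z, rfl⟩
      have hψ₂ : ∀ F, Function.Surjective (ψ₂ F) := fun F =>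
        (hDelta_surjective (hT F) 0).comp (hZero (injSeq F).X₃).symm.surjective
      have hker : ∀ F hF, (ψ₁ F hF).ker = (ψ₂ F).ker := by
        intro F hF
        ext s
        rw [AddMonoidHom.mem_ker, AddMonoidHom.mem_ker]
        refine Iff.trans ⟨fun h => ?_, ?_⟩ (hDelta_zero_iff (hT F) s).symm
        · obtain ⟨y, hy⟩ := (ShortComplex.ab_exact_iff _).1 ((hC F hF).homology_exact₃ 0 1 rfl) _ h
          obtain ⟨t, rfl⟩ := (sectionsToCech_bijective V hcov (injSeq F).X₂).2 y
          exact ⟨t, (sectionsToCech_bijective V hcov (injSeq F).X₃).1 ((ConcreteCategory.congr_hom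
            (sectionsToCech_naturality V (injSeq F).g.hom) t).trans hy)⟩
        · rintro ⟨t, rfl⟩
          refine (congrArg (δC F hF) (ConcreteCategory.congr_hom
            (sectionsToCech_naturality V (injSeq F).g.hom) t)).trans ?_
          exact ConcreteCategory.congr_hom ((hC F hF).comp_δ 0 1 rfl) (sectionsToCech V _ t)
      let e := fun (F : AbSheaf X) (hF : S.Acyclic F) => ((QuotientAddGroup.quotientKerEquivOfSurjective (ψ₁ F hF) (hψ₁ F hF)).symm.trans
        (QuotientAddGroup.quotientAddEquivOfEq (hker F hF))).trans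
        (QuotientAddGroup.quotientKerEquivOfSurjective (ψ₂ F) (hψ₂ F))
      have he : ∀ F hF s, e F hF (ψ₁ F hF s) = ψ₂ F s := fun (F : AbSheaf X) (hF : S.Acyclic F) s => by
        simp only [e, AddEquiv.trans_apply]
        rw [show (QuotientAddGroup.quotientKerEquivOfSurjective (ψ₁ F hF) (hψ₁ F hF)).symm (ψ₁ F hF s) =
          QuotientAddGroup.mk s from (AddEquiv.symm_apply_eq _).2 rfl]
        rfl
      refine ⟨fun F => e F.1 F.2, fun F G φ x => ?_⟩
      obtain ⟨F, hF⟩ := F
      obtain ⟨G, hG⟩ := G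
      obtain ⟨f, rfl⟩ := hext φ
      obtain ⟨s, rfl⟩ := hψ₁ F hF x
      have h1 : homologyMap ((cechSheafFunctor V).map f.τ₁) 1 (ψ₁ F hF s) =
          ψ₁ G hG (f.τ₃.hom.app (op ⊤) s) := by
        refine (hδC hF hG 0 f (sectionsToCech V (injSeq F).X₃.obj s)).symm.trans (congrArg (δC G hG) ?_)
        exact (ConcreteCategory.congr_hom (sectionsToCech_naturality V f.τ₃.hom) s).symm
      show e G hG _ = CategoryTheory.Sheaf.H.map f.τ₁ 1 (e F hF _)
      rw [h1, he G hG, he F hF]
      show hDelta (hT G) 0 ((hZero (injSeq G).X₃).symm (f.τ₃.hom.app (op ⊤) s)) =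
        CategoryTheory.Sheaf.H.map f.τ₁ 1 (hDelta (hT F) 0 ((hZero (injSeq F).X₃).symm s))
      rw [← hδ]
      exact congrArg (hDelta (hT G) 0)
        (CategoryTheory.Sheaf.H.equiv₀_symm_naturality isTerminalTop f.τ₃ s).symm

end

section

variable {X : Scheme.{u}} {ι : Type u} (V : ι → X.Opens)

/-- The Cech complex of a module. -/
abbrev cechMod : X.Modules ⥤ CochainComplex AddCommGrpCat.{u} ℕ :=
  SheafOfModules.toSheaf X.ringCatSheaf ⋙ cechSheafFunctor V

/-- Cech cohomology computes cohomology, naturally, on quasi-coherent modules. -/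
theorem nonempty_cechMod_homology_iso {C : Type*} [Category C] (T : C ⥤ X.Modules)
    (hT : ∀ c, Coh.IsQCoh (T.obj c)) (hcov : ⨆ k, V k = ⊤)
    (hV : ∀ (n : ℕ) (i : Fin (n + 1) → ι), IsAffineOpen (inter V i)) (p : ℕ) :
    Nonempty ((T ⋙ cechMod V) ⋙ HomologicalComplex.homologyFunctor AddCommGrpCat.{u} (ComplexShape.up ℕ) p ≅
      T ⋙ SheafOfModules.toSheaf X.ringCatSheaf ⋙
        CategoryTheory.Sheaf.functorH (Opens.grothendieckTopology X) p) := by
  obtain ⟨e, he⟩ := exists_cech_natEquiv (affineSystem X) V hcov hV p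
  let A : C → {F : AbSheaf X.toTopCat // (affineSystem X).Acyclic F} := fun c =>
    haveI := hT c
    ⟨Coh.toAb (T.obj c), acyclic_of_isQCoh (T.obj c)⟩
  exact ⟨NatIso.ofComponents (fun c => (e (A c)).toAddCommGrpIso)
    (fun {c d} φ => AddCommGrpCat.ext fun x => by
      rw [ConcreteCategory.comp_apply, ConcreteCategory.comp_apply]
      exact he (A c) (A d) ((SheafOfModules.toSheaf X.ringCatSheaf).map (T.map φ)) x)⟩

end

end Groth.Agent.BCModel
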