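import Groth.Agent.BCModel.Consequences
import Groth.Agent.FlatComplex.Tensor
import Groth.Agent.FlatComplex.Reduced
import Groth.Agent.MatlisDual.Completion
import Mathlib.RingTheory.Filtration

/-!
# Exactness from lengths on the thickenings
-/

noncomputable section

universe u

open CategoryTheory IsLocalRing Groth.Agent.FlatComplex
open scoped TensorProduct

namespace Groth.Agent.BCModel

variable {A : Type u} [CommRing A]

/-- The comparison is linear. -/
lemma nonempty_linearEquiv_HH {X : AlgebraicGeometry.Scheme.{u}}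
    [X.Over (AlgebraicGeometry.Spec (CommRingCat.of A))] (F : X.Modules) (P : ChainComplex (ModuleCat.{u} A) ℤ)
    (p : ℕ)
    (e : CohIII.TFun P (-(p : ℤ)) ⋙ forget₂ (ModuleCat.{u} A) AddCommGrpCat.{u} ≅ TF F ⋙ CohIII.HAb X p)
    (M : ModuleCat.{u} A) :
    Nonempty ((CohIII.TFun P (-(p : ℤ))).obj M ≃ₗ[A] Coh.HH X ((TF F).obj M) p) := by
  let E : (CohIII.TFun P (-(p : ℤ))).obj M ≃+ Coh.HH X ((TF F).obj M) p := (e.app M).addCommGroupIsoToAddEquiv
  refine ⟨E.toLinearEquiv fun a x => ?_⟩
  conv_lhs => rw [← map_lsmul P M a x]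
  refine (ConcreteCategory.congr_hom (e.hom.naturality (lsm a M)) x).trans ?_
  show CategoryTheory.Sheaf.H.map ((SheafOfModules.toSheaf X.ringCatSheaf).map ((TF F).map (lsm a M))) p _ = _
  rw [smulAb_eq_map_lsm]
  rfl

variable [IsLocalRing A] [IsNoetherianRing A] (P : ChainComplex (ModuleCat.{u} A) ℤ)
  (hP : ∀ i, Module.Finite A (P.X i) ∧ Module.Flat A (P.X i))

lemma length_quotient_pow_ne_top (n : ℕ) : Module.length A (A ⧸ maximalIdeal A ^ n) ≠ ⊤ :=
  Module.length_ne_top_iff.mpr (MatlisDual.isFiniteLength_quotient_pow n)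

/-- A finite module with thickenings of maximal length is free. -/
lemma free_of_length_quotient (N : Type u) [AddCommGroup N] [Module A N] [Module.Finite A N] (d : ℕ)
    (π : (Fin d → A) →ₗ[A] N) (hπ : Function.Surjective π) (n₀ : ℕ)
    (h : ∀ n, n₀ ≤ n → Module.length A (N ⊗[A] (A ⧸ maximalIdeal A ^ (n + 1))) =
      d * Module.length A (A ⧸ maximalIdeal A ^ (n + 1))) : Module.Free A N := by
  suffices hk : LinearMap.ker π = ⊥ from
    Module.Free.of_equiv (LinearEquiv.ofBijective π ⟨LinearMap.ker_eq_bot.1 hk, hπ⟩)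
  refine eq_bot_iff.2 fun v hv => ?_
  have key : ∀ n, n₀ ≤ n → v ∈ maximalIdeal A ^ (n + 1) • (⊤ : Submodule A (Fin d → A)) := by
    intro n hn
    let Q := A ⧸ maximalIdeal A ^ (n + 1)
    have hs : Function.Surjective (π.rTensor Q) := LinearMap.rTensor_surjective _ hπ
    let e : ((Fin d → A) ⊗[A] Q) ≃ₗ[A] (Fin d → Q) :=
      (TensorProduct.comm A _ _).trans (TensorProduct.piScalarRight A A Q (Fin d))
    have hl : Module.length A ((Fin d → A) ⊗[A] Q) = Module.length A (N ⊗[A] Q) := by
      rw [h n hn, e.length_eq, Module.length_pi, ENat.card_eq_coe_fintype_card, Fintype.card_fin]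
    have hne : Module.length A ((Fin d → A) ⊗[A] Q) ≠ ⊤ := by
      rw [hl, h n hn]
      exact WithTop.mul_ne_top (ENat.natCast_ne_top d) (length_quotient_pow_ne_top _)
    have hk0 : Module.length A (LinearMap.ker (π.rTensor Q)) = 0 := by
      have hinjk : Function.Injective (LinearMap.ker (π.rTensor Q)).subtype := Submodule.injective_subtype _
      have hexk : Function.Exact (LinearMap.ker (π.rTensor Q)).subtype (π.rTensor Q) := LinearMap.exact_subtype_ker_map _
      have hadd := Module.length_eq_add_of_exact (R := A) (M := (Fin d → A) ⊗[A] Q) (N := ↥(LinearMap.ker (π.rTensor Q))) (P := N ⊗[A] Q) _ _ hinjk hs hexk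
      rw [← hl] at hadd
      exact (ENat.add_left_injective_of_ne_top hne (a₁ := Module.length A (LinearMap.ker (π.rTensor Q))) (a₂ := 0)
        (show Module.length A (LinearMap.ker (π.rTensor Q)) + Module.length A ((Fin d → A) ⊗[A] Q) =
          0 + Module.length A ((Fin d → A) ⊗[A] Q) by rw [zero_add]; exact hadd.symm))
    haveI := Module.length_eq_zero_iff.1 hk0
    have hz : v ⊗ₜ[A] (Ideal.Quotient.mk _ (1 : A) : Q) ∈ LinearMap.ker (π.rTensor Q) := by
      rw [LinearMap.mem_ker, LinearMap.rTensor_tmul, LinearMap.mem_ker.1 hv, TensorProduct.zero_tmul]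
    have hv0 : v ⊗ₜ[A] (Ideal.Quotient.mk _ (1 : A) : Q) = 0 :=
      congrArg Subtype.val (Subsingleton.elim (⟨_, hz⟩ : LinearMap.ker (π.rTensor Q)) 0)
    have := congrArg (TensorProduct.tensorQuotEquivQuotSMul (Fin d → A) (maximalIdeal A ^ (n + 1))) hv0
    rw [TensorProduct.tensorQuotEquivQuotSMul_tmul_mk, one_smul, map_zero, Submodule.Quotient.mk_eq_zero] at this
    exact this
  rw [← Ideal.iInf_pow_smul_eq_bot_of_isLocalRing (maximalIdeal A) (maximalIdeal.isMaximal A).ne_top,
    Submodule.mem_iInf]
  intro i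
  exact Submodule.smul_mono_left (Ideal.pow_le_pow_right (by omega)) (key (n₀ + i) (by omega))

include hP

/-- Exactness is maximality of lengths on the thickenings. -/
theorem exact_iff_length (p : ℤ) :
    ((CohIII.TFun P p).PreservesMonomorphisms ∧ (CohIII.TFun P p).PreservesEpimorphisms) ↔
      ∃ n₀ : ℕ, ∀ n : ℕ, n₀ ≤ n →
        Module.length A (CohIII.T P p (ModuleCat.of A (A ⧸ maximalIdeal A ^ (n + 1)))) =
          Module.length A (CohIII.T P p (ModuleCat.of A (ResidueField A))) *
            Module.length A (A ⧸ maximalIdeal A ^ (n + 1)) := by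
  have hfl := fun i => (hP i).2
  haveI := (hP p).1
  refine ⟨fun h => ⟨0, fun n _ => length_T_eq P p hfl h _ (MatlisDual.isFiniteLength_quotient_pow _)⟩, ?_⟩
  rintro ⟨n₀, h⟩
  have hdfin : Module.length A (CohIII.T P p (ModuleCat.of A (ResidueField A))) ≠ ⊤ := by
    obtain ⟨ι, hinj, -, -⟩ := exists_toCok P (rfl : p + 1 = p + 1) (sub_add_cancel p 1)
    refine ne_top_of_le_ne_top ?_ (Module.length_le_of_injective (ι _) (hinj _))
    have : Module.length A (ResidueField A) ≠ ⊤ := by
      have := length_quotient_pow_ne_top (A := A) 1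
      rwa [pow_one] at this
    obtain ⟨m, π, hπ⟩ := Module.Finite.exists_fin' A (Cok P (p + 1) p)
    refine ne_top_of_le_ne_top ?_ (Module.length_le_of_surjective (π.rTensor (ResidueField A))
      (LinearMap.rTensor_surjective _ hπ))
    rw [((TensorProduct.comm A _ _).trans (TensorProduct.piScalarRight A A (ResidueField A) (Fin m))).length_eq,
      Module.length_pi, ENat.card_eq_coe_fintype_card]
    exact WithTop.mul_ne_top (ENat.natCast_ne_top _) this
  have hepi : (CohIII.TFun P p).PreservesEpimorphisms := by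
    refine preservesEpi_of_thickenings P hP p n₀ fun n hn => ?_
    let q : ModuleCat.of A (A ⧸ maximalIdeal A ^ (n + 1)) ⟶ ModuleCat.of A (A ⧸ maximalIdeal A) :=
      ModuleCat.ofHom (Ideal.Quotient.factorₐ A (Ideal.pow_le_self (I := maximalIdeal A)
        (Nat.succ_ne_zero n))).toLinearMap
    have hq : Function.Surjective q := Ideal.Quotient.factor_surjective (Ideal.pow_le_self (Nat.succ_ne_zero n))
    let S := LinearMap.ker q.hom
    let f : ModuleCat.of A S ⟶ ModuleCat.of A (A ⧸ maximalIdeal A ^ (n + 1)) := ModuleCat.ofHom S.subtype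
    have he := exact_map_middle P hfl p f q (Submodule.injective_subtype S) hq (LinearMap.exact_subtype_ker_map q.hom)
    have hlen : Module.length A (A ⧸ maximalIdeal A ^ (n + 1)) =
        Module.length A S + Module.length A (A ⧸ maximalIdeal A) :=
      Module.length_eq_add_of_exact S.subtype q.hom (Submodule.injective_subtype S) hq
        (LinearMap.exact_subtype_ker_map q.hom)
    have hSfin : Module.length A S ≠ ⊤ :=
      ne_top_of_le_ne_top (length_quotient_pow_ne_top (n + 1)) (hlen ▸ le_self_add)
    have hsum := length_le_add ((CohIII.TFun P p).map f).hom ((CohIII.TFun P p).map q).hom he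
    have h1 : Module.length A (LinearMap.range ((CohIII.TFun P p).map f).hom) ≤
        Module.length A (CohIII.T P p (ModuleCat.of A (ResidueField A))) * Module.length A S :=
      (Module.length_le_of_surjective _ (LinearMap.surjective_rangeRestrict _)).trans (length_T_le P hfl p _ hSfin)
    have hone : Module.length A (A ⧸ maximalIdeal A) = 1 :=
      Module.length_eq_one_iff.mpr (isSimpleModule_iff_quot_maximal.mpr ⟨_, maximalIdeal.isMaximal A, ⟨LinearEquiv.refl A _⟩⟩)
    have h2 := h n hn
    have htop : LinearMap.range ((CohIII.TFun P p).map q).hom = ⊤ := by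
      by_contra hne
      have hTk : Module.length A (CohIII.T P p (ModuleCat.of A (A ⧸ maximalIdeal A))) ≠ ⊤ := hdfin
      haveI : IsNoetherian A ((CohIII.TFun P p).obj (ModuleCat.of A (A ⧸ maximalIdeal A))) :=
        (isFiniteLength_iff_isNoetherian_isArtinian.mp (Module.length_ne_top_iff.mp hTk)).1
      haveI : IsArtinian A ((CohIII.TFun P p).obj (ModuleCat.of A (A ⧸ maximalIdeal A))) :=
        (isFiniteLength_iff_isNoetherian_isArtinian.mp (Module.length_ne_top_iff.mp hTk)).2
      have hlt : Module.length A (LinearMap.range ((CohIII.TFun P p).map q).hom) <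
          Module.length A (CohIII.T P p (ModuleCat.of A (A ⧸ maximalIdeal A))) := by
        exact Submodule.length_lt hne
      have hf2 : Module.length A (CohIII.T P p (ModuleCat.of A (ResidueField A))) * Module.length A S ≠ ⊤ :=
        WithTop.mul_ne_top hdfin hSfin
      have : Module.length A (CohIII.T P p (ModuleCat.of A (A ⧸ maximalIdeal A ^ (n + 1)))) <
          Module.length A (CohIII.T P p (ModuleCat.of A (ResidueField A))) *
            Module.length A (A ⧸ maximalIdeal A ^ (n + 1)) := by
        rw [hlen, mul_add, hone, mul_one]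
        exact lt_of_eq_of_lt hsum (ENat.add_lt_add_of_le_of_lt (ne_top_of_le_ne_top hf2 h1) h1 hlt)
      exact absurd h2 this.ne
    exact LinearMap.range_eq_top.1 htop
  refine ⟨?_, hepi⟩
  rw [preservesMono_iff_flat_self P hfl hepi]
  obtain ⟨e⟩ := exists_iso_tensorLeft P hfl hepi
  let N := LinearMap.ker (dbar P (p + 1) p (p - 1))
  haveI : Module.Finite A N := Module.Finite.iff_fg.2 (IsNoetherian.noetherian _)
  obtain ⟨π, hπ⟩ := exists_fin_span_of_fiberDim (A := A) N
  have hk : (fiberDim N (closedPoint A) : ℕ∞) =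
      Module.length A (CohIII.T P p (ModuleCat.of A (ResidueField A))) := by
    refine Eq.trans ?_ ((e.app (ModuleCat.of A (ResidueField A))).toLinearEquiv.length_eq).symm
    show _ = Module.length A (N ⊗[A] ResidueField A)
    have : (closedPoint A).asIdeal = maximalIdeal A := rfl
    let K := (closedPoint A).asIdeal.ResidueField
    haveI : (closedPoint A).asIdeal.IsMaximal := maximalIdeal.isMaximal A
    let k : ResidueField A ≃ₗ[A] K := LinearEquiv.ofBijective
      (IsScalarTower.toAlgHom A (A ⧸ (closedPoint A).asIdeal) K).toLinearMap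
      (Ideal.bijective_algebraMap_quotient_residueField _)
    rw [((TensorProduct.comm A N (ResidueField A)).trans (k.rTensor N)).length_eq,
      Module.length_eq_of_surjective (R := K) (S := A) (M := K ⊗[A] N) (Ideal.algebraMap_residueField_surjective (closedPoint A).asIdeal),
      Module.length_eq_finrank]
    rfl
  haveI : Module.Free A N := free_of_length_quotient N _ π hπ n₀ fun n hn => by
    rw [hk, ← h n hn]
    exact ((e.app (ModuleCat.of A (A ⧸ maximalIdeal A ^ (n + 1)))).toLinearEquiv.length_eq).symm
  exact Module.Flat.of_linearEquiv (((e.app (ModuleCat.of A A)).toLinearEquiv).trans (TensorProduct.rid A N))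

end Groth.Agent.BCModel
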