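import Groth.Agent.BCModel.Local
import Groth.Agent.BCModel.Length
import Groth.Agent.CohFinite.H0Rpush
import Groth.Agent.FlatOverBC.Scheme
import Groth.Agent.QCohPull.Affine
import Groth.Agent.QCohBase.FiniteTypePullback

/-!
# Fibre cohomology and higher direct images on affine charts of the base
-/

set_option autoImplicit false
set_option backward.isDefEq.respectTransparency false

noncomputable section

universe u

open CategoryTheory Limits AlgebraicGeometry Opposite TopologicalSpace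
open Groth.Agent.QCohBase

namespace Groth.Agent.BCModel

/-- Inverse images of coherent modules are coherent. -/
lemma isCoh_pullback {X Y : Scheme.{u}} (g : X ⟶ Y) {F : Y.Modules} (hF : Coh.IsCoh F) :
    Coh.IsCoh ((Scheme.Modules.pullback g).obj F) :=
  haveI : F.IsQuasicoherent := hF.1
  ⟨QCohPull.isQuasicoherent_pullback g F, isFT_pullback g hF.2⟩

section Field

variable {A : Type u} [CommRing A] {X : Scheme.{u}} [X.Over (Spec (CommRingCat.of A))]

/-- The dimension of cohomology after base change to a field. -/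
theorem finrank_eq_dRank [CompactSpace X] [X.IsSeparated] (F : X.Modules) (hF : Coh.IsQCoh F)
    (hfl : FlatMod.IsFlatOver (X ↘ Spec (CommRingCat.of A)) F) {K : Type u} [Field K] (φ : A →+* K)
    {X' : Scheme.{u}} [X'.Over (Spec (CommRingCat.of K))] (g' : X' ⟶ X)
    (H : IsPullback g' (X' ↘ Spec (CommRingCat.of K)) (X ↘ Spec (CommRingCat.of A))
      (Spec.map (CommRingCat.ofHom φ)))
    (P : ChainComplex (ModuleCat.{u} A) ℤ) (p : ℕ)
    (e : CohIII.TFun P (-(p : ℤ)) ⋙ forget₂ (ModuleCat.{u} A) AddCommGrpCat.{u} ≅ TF F ⋙ CohIII.HAb X p) :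
    Module.finrank K (Coh.HH X' ((Scheme.Modules.pullback g').obj F) p) =
      CohIII.dRank P (-(p : ℤ)) (PrimeSpectrum.comap φ ⊥) := by
  obtain ⟨Θ, hΘ⟩ := exists_fibreEquiv φ g' _ H F hF hfl p
  obtain ⟨Λ, hΛ⟩ := exists_bcHomologyEquiv φ P (-(p : ℤ))
  let Ψ := (Λ.symm.trans ((e.app (baseMod φ)).addCommGroupIsoToAddEquiv)).trans Θ
  let L : (CohIII.bcCx φ P).homology (-(p : ℤ)) ≃ₗ[K] Coh.HH X' ((Scheme.Modules.pullback g').obj F) p :=
    Ψ.toLinearEquiv fun b z => by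
      obtain ⟨x, rfl⟩ := Λ.surjective z
      rw [← hΛ]
      show Θ ((e.app (baseMod φ)).hom (Λ.symm (Λ _))) = b • Θ ((e.app (baseMod φ)).hom (Λ.symm (Λ x)))
      rw [Λ.symm_apply_apply, Λ.symm_apply_apply]
      refine (congrArg Θ (ConcreteCategory.congr_hom (e.hom.naturality (mulHom φ b)) x)).trans ?_
      exact hΘ b _
  let _ : Algebra A K := φ.toAlgebra
  let x' : PrimeSpectrum K := ⊥
  have h1 : CohIII.dRank (CohIII.bcCx φ P) (-(p : ℤ)) x' =
      Module.finrank K ((CohIII.bcCx φ P).homology (-(p : ℤ))) :=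
    FlatComplex.finrank_homology_extendScalars (algebraMap K x'.asIdeal.ResidueField) _ _
  exact (L.finrank_eq.symm.trans h1.symm).trans (FlatComplex.dRank_bcCx (A' := K) P (-(p : ℤ)) x')

end Field

variable {X Y : Scheme.{u}} (f : X ⟶ Y) [IsProper f] [IsLocallyNoetherian Y]

omit [IsLocallyNoetherian Y] in
lemma isProper_fiberToSpecResidueField (y : Y) : IsProper (f.fiberToSpecResidueField y) :=
  MorphismProperty.pullback_snd f _ inferInstance

omit [IsLocallyNoetherian Y] in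
/-- Cohomology of fibres of proper morphisms is finite dimensional. -/
theorem finite_fiberH (F : X.Modules) (hF : Coh.IsCoh F) (y : Y) (p : ℕ) :
    Module.Finite (Y.residueField y) (CohIII.fiberH f F y p) := by
  letI : (f.fiber y).Over (Spec (CommRingCat.of (Y.residueField y))) := ⟨f.fiberToSpecResidueField y⟩
  haveI : IsProper (f.fiber y ↘ Spec (CommRingCat.of (Y.residueField y))) :=
    isProper_fiberToSpecResidueField f y
  exact CohFinite.finite_HH_proper (A := Y.residueField y) _ (isCoh_pullback (f.fiberι y) hF) p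

omit [IsLocallyNoetherian Y] in
theorem fiberRank_eq_zero_iff (F : X.Modules) (hF : Coh.IsCoh F) (y : Y) (p : ℕ) :
    CohIII.fiberRank f F p y = 0 ↔ Subsingleton (CohIII.fiberH f F y p) :=
  haveI := finite_fiberH f F hF y p
  Module.finrank_zero_iff

omit [IsProper f] [IsLocallyNoetherian Y] in
/-- Sections of a module as cohomology of its restriction to an affine open. -/
theorem nonempty_H0_restrict {U : Y.Opens} (hU : IsAffineOpen U) (R : Y.Modules) :
    letI : U.toScheme.Over (Spec (CommRingCat.of Γ(Y, U))) := ⟨hU.isoSpec.hom⟩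
    Nonempty (Coh.HH U.toScheme (R.restrict U.ι) 0 ≃ₗ[Γ(Y, U)] Γ(R, U)) := by
  letI : U.toScheme.Over (Spec (CommRingCat.of Γ(Y, U))) := ⟨hU.isoSpec.hom⟩
  let e : Coh.HH U.toScheme (R.restrict U.ι) 0 ≃+ Γ(R.restrict U.ι, ⊤) :=
    CategoryTheory.Sheaf.H.equiv₀ (Coh.toAb (R.restrict U.ι)) isTerminalTop
  have heq : U.ι ''ᵁ ⊤ = U := U.ι_image_top
  let E : Coh.HH U.toScheme (R.restrict U.ι) 0 ≃+ Γ(R, U) :=
    (e.trans (R.restrictAppIso U.ι ⊤).addCommGroupIsoToAddEquiv).trans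
      (R.presheaf.mapIso (eqToIso heq).op).symm.addCommGroupIsoToAddEquiv
  refine ⟨E.toLinearEquiv fun a z => ?_⟩
  have h0 : e (a • z) = (show Γ(U.toScheme, ⊤) from Coh.resTop U.toScheme (op ⊤)
      (Coh.toGlobal (U.toScheme ↘ Spec (CommRingCat.of Γ(Y, U))) a)) • e z :=
    (CategoryTheory.Sheaf.H.equiv₀_naturality isTerminalTop
      (Coh.smulAb (R.restrict U.ι) (Coh.toGlobal (U.toScheme ↘ Spec (CommRingCat.of Γ(Y, U))) a)) z).symm
  show mres R heq.ge ((R.restrictAppIso U.ι ⊤).hom (e (a • z))) =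
    a • mres R heq.ge ((R.restrictAppIso U.ι ⊤).hom (e z))
  rw [h0]
  refine (congrArg (mres R heq.ge) (Scheme.Modules.smul_restrictAppIso_hom_apply U.ι R ⊤ _ _)).trans ?_
  rw [mres_smul]
  congr 1
  have h1 : Coh.toGlobal (U.toScheme ↘ Spec (CommRingCat.of Γ(Y, U))) a = U.topIso.inv a := by
    show hU.isoSpec.hom.appTop ((Scheme.ΓSpecIso Γ(Y, U)).inv a) = _
    rw [hU.isoSpec_hom_appTop]
    simp
  show ores heq.ge ((U.ι.appIso ⊤).inv (U.toScheme.presheaf.map (homOfLE le_top).op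
    (Coh.toGlobal (U.toScheme ↘ Spec (CommRingCat.of Γ(Y, U))) a))) = a
  rw [h1, Scheme.Opens.ι_appIso]
  simp only [Scheme.Opens.topIso_inv, ores, ← ConcreteCategory.comp_apply]
  refine ConcreteCategory.congr_hom (g := 𝟙 Γ(Y, U)) ?_ a
  erw [Category.comp_id, Scheme.Opens.toScheme_presheaf_map, ← Y.presheaf.map_comp]
  refine (Y.presheaf.map_comp _ _).symm.trans
    ((congrArg Y.presheaf.map (Subsingleton.elim _ (𝟙 (op U)))).trans (Y.presheaf.map_id _))

omit [IsProper f] [IsLocallyNoetherian Y] in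
/-- Sections of higher direct images on an affine open, as cohomology over it. -/
theorem nonempty_sections_Rpush_equiv [QuasiCompact f] [QuasiSeparated f] (F : X.Modules) (hF : Coh.IsQCoh F)
    {U : Y.Opens} (hU : IsAffineOpen U) (p : ℕ) :
    letI : (f ⁻¹ᵁ U).toScheme.Over (Spec (CommRingCat.of Γ(Y, U))) := ⟨f ∣_ U ≫ hU.isoSpec.hom⟩
    Nonempty (Γ((Coh.Rpush f p).obj F, U) ≃ₗ[Γ(Y, U)]
      Coh.HH (f ⁻¹ᵁ U).toScheme ((Scheme.Modules.pullback (f ⁻¹ᵁ U).ι).obj F) p) := by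
  letI : (f ⁻¹ᵁ U).toScheme.Over (Spec (CommRingCat.of Γ(Y, U))) := ⟨f ∣_ U ≫ hU.isoSpec.hom⟩
  letI : U.toScheme.Over (Spec (CommRingCat.of Γ(Y, U))) := ⟨hU.isoSpec.hom⟩
  haveI : IsAffine U.toScheme := hU
  haveI : QuasiCompact (f ∣_ U) := MorphismProperty.of_isPullback (isPullback_morphismRestrict f U).flip ‹_›
  haveI : QuasiSeparated (f ∣_ U) := MorphismProperty.of_isPullback (isPullback_morphismRestrict f U).flip ‹_›
  obtain ⟨e₂⟩ := CohFinite.nonempty_HH_linearEquiv (A := Γ(Y, U)) (f ∣_ U) rfl (F.restrict (f ⁻¹ᵁ U).ι)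
    (haveI : F.IsQuasicoherent := hF
     inferInstanceAs ((Scheme.Modules.restrictFunctor (f ⁻¹ᵁ U).ι).obj F).IsQuasicoherent) p
  obtain ⟨e₃⟩ := CohFinite.nonempty_Rpush_restrict f U F p
  obtain ⟨e₄⟩ := nonempty_H0_restrict hU ((Coh.Rpush f p).obj F)
  exact ⟨e₄.symm.trans ((CohFinite.hhEquiv Γ(Y, U) e₃ 0).trans (e₂.symm.trans
    (CohFinite.hhEquiv Γ(Y, U) ((Scheme.Modules.restrictFunctorIsoPullback (f ⁻¹ᵁ U).ι).app F) p)))⟩

/-- Cohomology and base change on an affine chart, with the identification of the model. -/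
theorem exists_chart_iso (F : X.Modules) (hF : Coh.IsCoh F) (hfl : FlatMod.IsFlatOver f F)
    {U : Y.Opens} (hU : IsAffineOpen U) :
    letI : (f ⁻¹ᵁ U).toScheme.Over (Spec (CommRingCat.of Γ(Y, U))) := ⟨f ∣_ U ≫ hU.isoSpec.hom⟩
    ∃ P : ChainComplex (ModuleCat.{u} Γ(Y, U)) ℤ,
      (∀ i, Module.Finite Γ(Y, U) (P.X i) ∧ Module.Flat Γ(Y, U) (P.X i)) ∧
      (∃ b : ℤ, ∀ i < b, Subsingleton (P.X i)) ∧
      (∀ j, 0 < j → ∀ M, Subsingleton ((CohIII.TFun P j).obj M)) ∧
      (∀ (y : Y) (hy : y ∈ U) (p : ℕ),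
        CohIII.fiberRank f F p y = CohIII.dRank P (-(p : ℤ)) (hU.primeIdealOf ⟨y, hy⟩)) ∧
      (∀ p : ℕ, Nonempty (Γ((Coh.Rpush f p).obj F, U) ≃ₗ[Γ(Y, U)] HK P (-(p : ℤ)))) ∧
      FlatMod.IsFlatOver ((f ⁻¹ᵁ U).toScheme ↘ Spec (CommRingCat.of Γ(Y, U)))
        ((Scheme.Modules.pullback (f ⁻¹ᵁ U).ι).obj F) ∧
      ∀ p : ℕ, Nonempty (CohIII.TFun P (-(p : ℤ)) ⋙ forget₂ (ModuleCat.{u} Γ(Y, U)) AddCommGrpCat.{u} ≅
        TF ((Scheme.Modules.pullback (f ⁻¹ᵁ U).ι).obj F) ⋙ CohIII.HAb (f ⁻¹ᵁ U).toScheme p) := by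
  let A := Γ(Y, U)
  haveI : IsNoetherianRing A := QCohBase.isNoetherianRing_sections hU
  let W := f ⁻¹ᵁ U
  let π := f ∣_ U
  letI iU : U.toScheme.Over (Spec (CommRingCat.of A)) := ⟨hU.isoSpec.hom⟩
  letI iW : W.toScheme.Over (Spec (CommRingCat.of A)) := ⟨π ≫ hU.isoSpec.hom⟩
  haveI hpπ : IsProper π := MorphismProperty.of_isPullback (isPullback_morphismRestrict f U).flip ‹_›
  haveI : IsProper (W.toScheme ↘ Spec (CommRingCat.of A)) :=
    inferInstanceAs (IsProper (π ≫ hU.isoSpec.hom))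
  have sqU : IsPullback W.ι (W.toScheme ↘ Spec (CommRingCat.of A)) f hU.fromSpec := by
    refine (isPullback_morphismRestrict f U).flip.of_iso (Iso.refl _) (Iso.refl _) hU.isoSpec (Iso.refl _)
      ?_ ?_ ?_ ?_
    · simp [W]
    · exact (Category.id_comp _).symm
    · simp [W, π]
    · simp [W, π]
  let FW := (Scheme.Modules.pullback W.ι).obj F
  have hFW : Coh.IsCoh FW := isCoh_pullback W.ι hF
  have hflW : FlatMod.IsFlatOver (W.toScheme ↘ Spec (CommRingCat.of A)) FW := fun w =>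
    FlatOverBC.isFlatOverAt_baseChange sqU F w (hfl _)
  obtain ⟨P, hfree, hb, hpos, hiso⟩ := exists_chainModel' (A := A) FW hFW hflW
  have hP : ∀ i, Module.Finite A (P.X i) ∧ Module.Flat A (P.X i) := fun i =>
    ⟨(hfree i).1, haveI := (hfree i).2; inferInstance⟩
  haveI : CompactSpace W.toScheme :=
    QuasiCompact.compactSpace_of_compactSpace (W.toScheme ↘ Spec (CommRingCat.of A))
  haveI : W.toScheme.IsSeparated :=
    ⟨by rw [← terminal.comp_from (W.toScheme ↘ Spec (CommRingCat.of A))]; infer_instance⟩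
  refine ⟨P, hP, hb, hpos, fun y hy p => ?_, fun p => ?_, hflW, hiso⟩
  · obtain ⟨e⟩ := hiso p
    let K := Y.residueField y
    have hy' : Set.range (Y.fromSpecResidueField y) ⊆ Set.range hU.fromSpec := by
      rw [Scheme.range_fromSpecResidueField, hU.range_fromSpec]
      exact Set.singleton_subset_iff.2 hy
    let ψ := IsOpenImmersion.lift hU.fromSpec (Y.fromSpecResidueField y) hy'
    let φ : A →+* K := (Spec.preimage ψ).hom
    have hψ : Spec.map (CommRingCat.ofHom φ) = ψ := Spec.map_preimage _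
    have hg : Set.range (f.fiberι y) ⊆ Set.range W.ι := by
      rw [f.range_fiberι, Scheme.Opens.range_ι]
      intro x hx
      show f x ∈ U
      rw [show f x = y from hx]
      exact hy
    let g' := IsOpenImmersion.lift W.ι (f.fiberι y) hg
    letI iF : (f.fiber y).Over (Spec (CommRingCat.of K)) := ⟨f.fiberToSpecResidueField y⟩
    have hψf : ψ ≫ hU.fromSpec = Y.fromSpecResidueField y := IsOpenImmersion.lift_fac _ _ _
    have hgf : g' ≫ W.ι = f.fiberι y := IsOpenImmersion.lift_fac _ _ _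
    have outer : IsPullback (g' ≫ W.ι) (f.fiberToSpecResidueField y) f (ψ ≫ hU.fromSpec) := by
      rw [hψf, hgf]
      exact IsPullback.of_hasPullback _ _
    have H : IsPullback g' (f.fiber y ↘ Spec (CommRingCat.of K)) (W.toScheme ↘ Spec (CommRingCat.of A))
        (Spec.map (CommRingCat.ofHom φ)) := by
      rw [hψ]
      refine IsPullback.of_right outer ?_ sqU
      rw [← cancel_mono hU.fromSpec, Category.assoc, Category.assoc, ← sqU.w, ← Category.assoc]
      exact outer.w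
    have h := finrank_eq_dRank FW hFW.1 hflW φ g' H P p e
    have hpt : PrimeSpectrum.comap φ ⊥ = hU.primeIdealOf ⟨y, hy⟩ := by
      refine hU.fromSpec.isOpenEmbedding.injective ?_
      rw [hU.fromSpec_primeIdealOf]
      show (Spec.map (CommRingCat.ofHom φ) ≫ hU.fromSpec) (⊥ : PrimeSpectrum K) = y
      rw [hψ, hψf]
      exact Scheme.fromSpecResidueField_apply y _
    rw [← hpt, ← h]
    refine (LinearEquiv.finrank_eq (R := K) ?_).symm
    exact CohFinite.hhEquiv K ((Scheme.Modules.pullbackComp g' W.ι).app F ≪≫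
      (Scheme.Modules.pullbackCongr hgf).app F) p
  · obtain ⟨e⟩ := hiso p
    obtain ⟨e₁⟩ := nonempty_linearEquiv_HH FW P p e (ModuleCat.of A A)
    obtain ⟨e₂⟩ := nonempty_sections_Rpush_equiv f F hF.1 hU p
    obtain ⟨e₅⟩ := FlatComplex.nonempty_T_self_equiv P (rfl : -(p : ℤ) + 1 = _) (sub_add_cancel (-(p : ℤ)) 1)
    exact ⟨(e₂.trans ((CohFinite.hhEquiv A (tfSelfIso (A := A) FW).symm p).trans e₁.symm)).trans e₅⟩


/-- Cohomology and base change on an affine chart of the base. -/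
theorem exists_chart (F : X.Modules) (hF : Coh.IsCoh F) (hfl : FlatMod.IsFlatOver f F)
    {U : Y.Opens} (hU : IsAffineOpen U) :
    ∃ P : ChainComplex (ModuleCat.{u} Γ(Y, U)) ℤ,
      (∀ i, Module.Finite Γ(Y, U) (P.X i) ∧ Module.Flat Γ(Y, U) (P.X i)) ∧
      (∃ b : ℤ, ∀ i < b, Subsingleton (P.X i)) ∧
      (∀ j, 0 < j → ∀ M, Subsingleton ((CohIII.TFun P j).obj M)) ∧
      (∀ (y : Y) (hy : y ∈ U) (p : ℕ),
        CohIII.fiberRank f F p y = CohIII.dRank P (-(p : ℤ)) (hU.primeIdealOf ⟨y, hy⟩)) ∧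
      ∀ p : ℕ, Nonempty (Γ((Coh.Rpush f p).obj F, U) ≃ₗ[Γ(Y, U)] HK P (-(p : ℤ))) := by
  obtain ⟨P, hP, hb, hpos, hrank, hsec, -, -⟩ := exists_chart_iso f F hF hfl hU
  exact ⟨P, hP, hb, hpos, hrank, hsec⟩

end Groth.Agent.BCModel
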