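import Groth.Agent.BCModel.Model
import Groth.Agent.CAlgMisc.SmallC
import Groth.Agent.FlatComplex.Artinian
import Groth.Agent.FlatComplex.Length

/-!
# Products and corepresentability for `H(P ⊗ -)`
-/

noncomputable section

universe u

open CategoryTheory MonoidalCategory Limits Opposite Groth.Agent.FlatComplex
open scoped TensorProduct

namespace Groth.Agent.BCModel

variable {A : Type u} [CommRing A] (P : ChainComplex (ModuleCat.{u} A) ℤ)

section Transfer

variable {P} {p : ℤ} {T : ModuleCat.{u} A ⥤ AddCommGrpCat.{u}}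
  (e : CohIII.TFun P p ⋙ forget₂ (ModuleCat.{u} A) AddCommGrpCat.{u} ≅ T)

include e

lemma surjective_map_iff {M N : ModuleCat.{u} A} (g : M ⟶ N) :
    Function.Surjective (T.map g).hom ↔ Function.Surjective ((CohIII.TFun P p).map g) := by
  have h : ∀ x, (T.map g) ((e.app M).hom x) = (e.app N).hom ((CohIII.TFun P p).map g x) := fun x =>
    (ConcreteCategory.congr_hom (e.hom.naturality g) x).symm
  have hM : Function.Bijective ((e.app M).hom) := ConcreteCategory.bijective_of_isIso _
  have hN : Function.Bijective ((e.app N).hom) := ConcreteCategory.bijective_of_isIso _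
  constructor
  · intro hs y
    obtain ⟨z, hz⟩ := hs ((e.app N).hom y)
    obtain ⟨x, rfl⟩ := hM.2 z
    exact ⟨x, hN.1 ((h x).symm.trans hz)⟩
  · intro hs y
    obtain ⟨z, rfl⟩ := hN.2 y
    obtain ⟨x, rfl⟩ := hs z
    exact ⟨_, h x⟩

lemma preservesEpi_transfer :
    T.PreservesEpimorphisms ↔ (CohIII.TFun P p).PreservesEpimorphisms := by
  refine ⟨fun h => (preservesEpi_iff P p).2 fun M N g hg => ?_, fun h => ⟨fun {M N} g hg => ?_⟩⟩
  · haveI : Epi g := (ModuleCat.epi_iff_surjective g).2 hg
    haveI := h.preserves g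
    exact (surjective_map_iff e g).1 ((AddCommGrpCat.epi_iff_surjective _).1 inferInstance)
  · exact (AddCommGrpCat.epi_iff_surjective _).2 ((surjective_map_iff e g).2
      ((preservesEpi_iff P p).1 h g ((ModuleCat.epi_iff_surjective g).1 hg)))

lemma injective_map_iff {M N : ModuleCat.{u} A} (g : M ⟶ N) :
    Function.Injective (T.map g).hom ↔ Function.Injective ((CohIII.TFun P p).map g) := by
  have h : ∀ x, (T.map g) ((e.app M).hom x) = (e.app N).hom ((CohIII.TFun P p).map g x) := fun x =>
    (ConcreteCategory.congr_hom (e.hom.naturality g) x).symm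
  have hM : Function.Bijective ((e.app M).hom) := ConcreteCategory.bijective_of_isIso _
  have hN : Function.Bijective ((e.app N).hom) := ConcreteCategory.bijective_of_isIso _
  constructor
  · intro hs x y hxy
    exact hM.1 (hs ((h x).trans ((congrArg _ hxy).trans (h y).symm)))
  · intro hs x y hxy
    obtain ⟨x, rfl⟩ := hM.2 x
    obtain ⟨y, rfl⟩ := hM.2 y
    exact congrArg _ (hs (hN.1 ((h x).symm.trans (hxy.trans (h y)))))

lemma preservesMono_transfer :
    T.PreservesMonomorphisms ↔ (CohIII.TFun P p).PreservesMonomorphisms := by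
  refine ⟨fun h => (preservesMono_iff P p).2 fun M N g hg => ?_, fun h => ⟨fun {M N} g hg => ?_⟩⟩
  · haveI : Mono g := (ModuleCat.mono_iff_injective g).2 hg
    haveI := h.preserves g
    exact (injective_map_iff e g).1 ((AddCommGrpCat.mono_iff_injective _).1 inferInstance)
  · exact (AddCommGrpCat.mono_iff_injective _).2 ((injective_map_iff e g).2
      ((preservesMono_iff P p).1 h g ((ModuleCat.mono_iff_injective g).1 hg)))

end Transfer

variable [IsNoetherianRing A] (hP : ∀ i, Module.Finite A (P.X i) ∧ Module.Flat A (P.X i))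

include hP

/-- `H(P ⊗ -)` commutes with products. -/
theorem preservesLimitsOfShape_TFun (q : ℤ) (J : Type u) :
    PreservesLimitsOfShape (Discrete J) (CohIII.TFun P q) := by
  haveI := (hP q).1
  haveI := (hP (q - 1)).1
  obtain ⟨ι, hinj, hrange, hnat⟩ := exists_toCok P (rfl : q + 1 = q + 1) (sub_add_cancel q 1)
  haveI : Module.FinitePresentation A (Cok P (q + 1) q) :=
    Module.finitePresentation_of_finite A _
  haveI : Module.FinitePresentation A (P.X (q - 1)) := Module.finitePresentation_of_finite A _
  suffices key : ∀ f : J → ModuleCat.{u} A, PreservesLimit (Discrete.functor f) (CohIII.TFun P q) by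
    exact preservesLimitsOfShape_of_discrete _
  intro f
  let Pf := ModuleCat.of A (∀ j, f j)
  let pr := fun j => ModuleCat.ofHom (LinearMap.proj j : (∀ j, f j) →ₗ[A] f j)
  let φ : (CohIII.TFun P q).obj Pf ⟶ ModuleCat.of A (∀ j, (CohIII.TFun P q).obj (f j)) :=
    ModuleCat.ofHom (LinearMap.pi fun j => ((CohIII.TFun P q).map (pr j)).hom)
  have hC := (CAlgMisc.finitePresentation_iff_piRightHom A (Cok P (q + 1) q)).1 inferInstance J (fun j => f j)
  have hP' := (CAlgMisc.finitePresentation_iff_piRightHom A (P.X (q - 1))).1 inferInstance J (fun j => f j)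
  have hcomp : ∀ h j, ι (f j) (φ h j) =
      TensorProduct.piRightHom A A (Cok P (q + 1) q) (fun j => f j) (ι Pf h) j := by
    intro h j
    refine (hnat (pr j) h).trans ?_
    generalize ι Pf h = z
    induction z using TensorProduct.induction_on with
    | zero => simp
    | tmul a b => simp; rfl
    | add a b ha hb => rw [map_add, map_add, Pi.add_apply, ha, hb]
  have hφ : Function.Bijective φ := by
    refine ⟨(injective_iff_map_eq_zero φ.hom).2 fun h hh => hinj Pf (hC.1 ?_), fun t => ?_⟩
    · rw [map_zero, map_zero]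
      funext j
      rw [← hcomp, show φ h j = 0 from congrFun hh j, map_zero]
      rfl
    · obtain ⟨z, hz⟩ := hC.2 (fun j => ι (f j) (t j))
      have hz0 : (dbar P (q + 1) q (q - 1)).rTensor Pf z = 0 := by
        refine hP'.1 ?_
        rw [map_zero]
        funext j
        have : ∀ w : Cok P (q + 1) q ⊗[A] (∀ j, f j),
            TensorProduct.piRightHom A A (P.X (q - 1)) (fun j => f j) ((dbar P (q + 1) q (q - 1)).rTensor _ w) j =
              (dbar P (q + 1) q (q - 1)).rTensor (f j) (TensorProduct.piRightHom A A _ (fun j => f j) w j) := by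
          intro w
          induction w using TensorProduct.induction_on with
          | zero => simp
          | tmul a b => simp
          | add a b ha hb => simp only [map_add, Pi.add_apply, ha, hb]
        rw [this, hz]
        exact LinearMap.mem_ker.1 (hrange (f j) ▸ ⟨t j, rfl⟩)
      obtain ⟨h, rfl⟩ : z ∈ LinearMap.range (ι Pf) := hrange Pf ▸ LinearMap.mem_ker.2 hz0
      exact ⟨h, funext fun j => hinj _ ((hcomp h j).trans (congrFun hz j))⟩
  haveI : IsIso φ := (ConcreteCategory.isIso_iff_bijective φ).2 hφ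
  refine preservesLimit_of_preserves_limit_cone (ModuleCat.productConeIsLimit f)
    ((isLimitMapConeFanMkEquiv (CohIII.TFun P q) f pr).symm ?_)
  exact IsLimit.ofIsoLimit (ModuleCat.productConeIsLimit fun j => (CohIII.TFun P q).obj (f j))
    (Fan.ext (asIso φ).symm fun j => by
      show _ = (inv φ) ≫ _
      refine (IsIso.eq_inv_comp φ).2 ?_
      exact ModuleCat.hom_ext (LinearMap.ext fun h => rfl))

/-- `H(P ⊗ -)` is `Hom` out of a module as soon as it is left exact. -/
theorem exists_iso_linearCoyoneda {q : ℤ} (h : (CohIII.TFun P q).PreservesMonomorphisms) :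
    ∃ Q : ModuleCat.{u} A, Nonempty (CohIII.TFun P q ≅ (linearCoyoneda A (ModuleCat.{u} A)).obj (op Q)) := by
  haveI := (hP q).1
  haveI := (hP (q - 1)).1
  haveI := (hP (q - 1)).2
  obtain ⟨ι, hinj, hrange, hnat⟩ := exists_toCok P (rfl : q + 1 = q + 1) (sub_add_cancel q 1)
  let C := Cok P (q + 1) q
  haveI : Module.Flat A C := (preservesMono_iff_flat P rfl (hP _).2).1 h
  haveI : Module.FinitePresentation A C := Module.finitePresentation_of_finite A _
  haveI : Module.Projective A C := Module.Flat.projective_of_finitePresentation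
  haveI : Module.FinitePresentation A (P.X (q - 1)) := Module.finitePresentation_of_finite A _
  haveI : Module.Projective A (P.X (q - 1)) := Module.Flat.projective_of_finitePresentation
  let dd := (dbar P (q + 1) q (q - 1)).dualMap
  let Φ : ∀ (E : Type u) [AddCommGroup E] [Module A E] (M : ModuleCat.{u} A),
      E ⊗[A] M →ₗ[A] (Module.Dual A E →ₗ[A] M) := fun E _ _ M =>
    dualTensorHom A (Module.Dual A E) M ∘ₗ (Module.Dual.eval A E).rTensor M
  have hΦ : ∀ (E : Type u) [AddCommGroup E] [Module A E] [Module.Finite A E] [Module.Projective A E]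
      (M : ModuleCat.{u} A), Function.Bijective (Φ E M) := fun E _ _ _ _ M =>
    ((dualTensorHomEquiv A (Module.Dual A E) M).bijective.comp
      ((Module.evalEquiv A E).rTensor M).bijective)
  have hΦ_tmul : ∀ (E : Type u) [AddCommGroup E] [Module A E] (M : ModuleCat.{u} A) (c : E) (m : M)
      (φ : Module.Dual A E), Φ E M (c ⊗ₜ[A] m) φ = φ c • m := fun E _ _ M c m φ => by
    simp [Φ, dualTensorHom_apply]
  have hd : ∀ (M : ModuleCat.{u} A) (z : C ⊗[A] M) (g : Module.Dual A (P.X (q - 1))),
      Φ (P.X (q - 1)) M ((dbar P (q + 1) q (q - 1)).rTensor M z) g = Φ C M z (dd g) := by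
    intro M z g
    induction z using TensorProduct.induction_on with
    | zero => simp
    | tmul c m =>
      rw [LinearMap.rTensor_tmul, hΦ_tmul, hΦ_tmul]
      rfl
    | add a b ha hb => simp only [map_add, LinearMap.add_apply, ha, hb]
  have hn : ∀ {M N : ModuleCat.{u} A} (g : M ⟶ N) (z : C ⊗[A] M) (φ : Module.Dual A C),
      Φ C N (g.hom.lTensor C z) φ = g.hom (Φ C M z φ) := by
    intro M N g z φ
    induction z using TensorProduct.induction_on with
    | zero => simp
    | tmul c m => rw [LinearMap.lTensor_tmul, hΦ_tmul, hΦ_tmul, map_smul]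
    | add a b ha hb => simp only [map_add, LinearMap.add_apply, ha, hb]
  let Q := ModuleCat.of A (Module.Dual A C ⧸ LinearMap.range dd)
  have hker : ∀ (M : ModuleCat.{u} A) (x : (CohIII.TFun P q).obj M),
      LinearMap.range dd ≤ LinearMap.ker (Φ C M (ι M x)) := by
    rintro M x _ ⟨g, rfl⟩
    rw [LinearMap.mem_ker, ← hd,
      LinearMap.mem_ker.1 (hrange M ▸ ⟨x, rfl⟩ : ι M x ∈ LinearMap.ker ((dbar P (q + 1) q (q - 1)).rTensor M))]
    simp
  let E : ∀ M : ModuleCat.{u} A, (CohIII.TFun P q).obj M →ₗ[A] (Q ⟶ M) := fun M =>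
    { toFun := fun x => ModuleCat.ofHom ((LinearMap.range dd).liftQ (Φ C M (ι M x)) (hker M x))
      map_add' := fun x y => ModuleCat.hom_ext (Submodule.linearMap_qext _ (LinearMap.ext fun φ => by simp))
      map_smul' := fun a x => ModuleCat.hom_ext (Submodule.linearMap_qext _ (LinearMap.ext fun φ => by simp)) }
  have hE : ∀ M, Function.Bijective (E M) := by
    refine fun M => ⟨fun x y hxy => hinj M ((hΦ C M).1 ?_), fun ψ => ?_⟩
    · exact LinearMap.ext fun φ => congrArg (fun t : Q ⟶ M => t (Submodule.Quotient.mk φ)) hxy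
    · obtain ⟨z, hz⟩ := (hΦ C M).2 (ψ.hom ∘ₗ (LinearMap.range dd).mkQ)
      have hz0 : (dbar P (q + 1) q (q - 1)).rTensor M z = 0 := by
        refine (hΦ (P.X (q - 1)) M).1 (LinearMap.ext fun g => ?_)
        rw [hd, hz, map_zero, LinearMap.comp_apply, Submodule.mkQ_apply,
          (Submodule.Quotient.mk_eq_zero _).2 (LinearMap.mem_range_self dd g), map_zero]
        rfl
      obtain ⟨x, rfl⟩ : z ∈ LinearMap.range (ι M) := hrange M ▸ LinearMap.mem_ker.2 hz0
      exact ⟨x, ModuleCat.hom_ext (Submodule.linearMap_qext _ hz)⟩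
  refine ⟨Q, ⟨NatIso.ofComponents (fun M => (LinearEquiv.ofBijective (E M) (hE M)).toModuleIso) ?_⟩⟩
  intro M N g
  refine ModuleCat.hom_ext (LinearMap.ext fun x => ?_)
  refine ModuleCat.hom_ext (Submodule.linearMap_qext _ (LinearMap.ext fun φ => ?_))
  show Φ C N (ι N ((CohIII.TFun P q).map g x)) φ = g.hom (Φ C M (ι M x) φ)
  rw [hnat, hn]

end Groth.Agent.BCModel
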