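import Groth.Agent.BCModel.TensorFun

/-!
# Scalars act on `F ⊗_A -` as they do on the base
-/

noncomputable section

set_option backward.isDefEq.respectTransparency false

universe u

open CategoryTheory MonoidalCategory Limits AlgebraicGeometry Opposite
open scoped TensorProduct

namespace Groth.Agent.BCModel

open Groth.Agent.DCohBridge Groth.Agent.QCohBase

variable {A : Type u} [CommRing A]

/-- Multiplication by a scalar. -/
abbrev lsm (a : A) (M : ModuleCat.{u} A) : M ⟶ M := ModuleCat.ofHom (LinearMap.lsmul A M a)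

lemma ell_eq_lsm (a : A) : ell (M := ModuleCat.of A A) a = lsm a _ :=
  ModuleCat.hom_ext (LinearMap.ext_ring (by show (1 : A) • a = a • (1 : A); simp))

section Lin

variable {R S : Type u} [CommRing R] [CommRing S]

/-- The functor is linear along `χ`. -/
def Lin (K : ModuleCat.{u} A ⥤ ModuleCat.{u} R) (χ : A →+* R) : Prop :=
  ∀ (M : ModuleCat.{u} A) (a : A) (z : K.obj M), K.map (lsm a M) z = χ a • z

lemma Lin.of_iso {K L : ModuleCat.{u} A ⥤ ModuleCat.{u} R} (e : K ≅ L) {χ : A →+* R} (hK : Lin K χ) :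
    Lin L χ := by
  intro M a z
  have h := hK M a ((e.app M).inv z)
  have hz : (e.app M).hom ((e.app M).inv z) = z := by
    rw [← ConcreteCategory.comp_apply, Iso.inv_hom_id]; rfl
  conv_lhs => rw [← hz]
  rw [← ConcreteCategory.comp_apply]
  refine (ConcreteCategory.congr_hom (e.hom.naturality (lsm a M)).symm _).trans ?_
  rw [ConcreteCategory.comp_apply, h]
  exact (map_smul (e.app M).hom.hom _ _).trans (congrArg (χ a • ·) hz)

lemma lin_extendScalars (φ : A →+* S) : Lin (ModuleCat.extendScalars.{u, u, u} φ) φ := by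
  intro M a z
  letI := φ.toAlgebra
  induction z using TensorProduct.induction_on with
  | zero => exact (map_zero _).trans (smul_zero _).symm
  | tmul s m =>
    refine (ModuleCat.ExtendScalars.map_tmul (f := φ) (lsm a M) s m).trans ?_
    show (show S from s) ⊗ₜ[A] (a • m) = (φ a * (show S from s)) ⊗ₜ[A] m
    rw [TensorProduct.tmul_smul, TensorProduct.smul_tmul']
    rfl
  | add x y hx hy => exact (map_add _ x y).trans ((congrArg₂ (· + ·) hx hy).trans (smul_add _ _ _).symm)

lemma Lin.extendScalars {K : ModuleCat.{u} A ⥤ ModuleCat.{u} R} {χ : A →+* R} (hK : Lin K χ)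
    (ψ : R →+* S) : Lin (K ⋙ ModuleCat.extendScalars.{u, u, u} ψ) (ψ.comp χ) := by
  intro M a z
  letI := ψ.toAlgebra
  change (ModuleCat.extendScalars.{u, u, u} ψ).map (K.map (lsm a M)) z = _
  induction z using TensorProduct.induction_on with
  | zero => exact (map_zero _).trans (smul_zero _).symm
  | tmul s m =>
    refine (ModuleCat.ExtendScalars.map_tmul (f := ψ) (K.map (lsm a M)) s m).trans ?_
    rw [hK]
    show (show S from s) ⊗ₜ[R] (χ a • m) = (ψ (χ a) * (show S from s)) ⊗ₜ[R] m
    rw [TensorProduct.tmul_smul, TensorProduct.smul_tmul']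
    rfl
  | add x y hx hy => exact (map_add _ x y).trans ((congrArg₂ (· + ·) hx hy).trans (smul_add _ _ _).symm)

lemma Lin.tensorRight {K : ModuleCat.{u} A ⥤ ModuleCat.{u} R} {χ : A →+* R} (hK : Lin K χ)
    (N : ModuleCat.{u} R) : Lin (K ⋙ MonoidalCategory.tensorRight N) χ := by
  intro M a z
  change ((K.map (lsm a M)).hom.rTensor N) z = _
  induction z using TensorProduct.induction_on with
  | zero => exact (map_zero _).trans (smul_zero _).symm
  | tmul e n =>
    rw [LinearMap.rTensor_tmul]
    refine (congrArg (· ⊗ₜ[R] n) (hK M a e)).trans ?_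
    exact (TensorProduct.smul_tmul' _ _ _).symm
  | add x y hx hy => exact (map_add _ x y).trans ((congrArg₂ (· + ·) hx hy).trans (smul_add _ _ _).symm)

end Lin

variable {X : Scheme.{u}} [X.Over (Spec (CommRingCat.of A))]

/-- The ring map to global functions. -/
abbrev structHom (A : Type u) [CommRing A] (X : Scheme.{u}) [X.Over (Spec (CommRingCat.of A))] :
    A →+* X.presheaf.obj (op ⊤) :=
  ((Scheme.ΓSpecIso (CommRingCat.of A)).inv ≫ (X ↘ Spec (CommRingCat.of A)).appTop).hom

lemma germ_structHom (x : X) (a : A) :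
    stφ (X ↘ Spec (CommRingCat.of A)) x (tildeφ (CommRingCat.of A) _ a) =
      X.presheaf.germ ⊤ x trivial (structHom A X a) :=
  germ_stφ (X ↘ Spec (CommRingCat.of A)) x ⊤ trivial _

variable (F : X.Modules)

lemma lin_GF (x : X) :
    Lin (GF A F x) ((stφ (X ↘ Spec (CommRingCat.of A)) x).comp (tildeφ (CommRingCat.of A) _)) :=
  (((lin_extendScalars _).of_iso (stalkTildeIso (CommRingCat.of A) _).symm).extendScalars _).tensorRight _

/-- Multiplication by a scalar on `F ⊗_A M`, on sections. -/
theorem TF_map_lsm_app (M : ModuleCat.{u} A) (a : A) (U : X.Opens) (s : Γ((TF F).obj M, U)) :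
    ((TF F).map (lsm a M)).app U s = (X.presheaf.map (homOfLE (le_top : U ≤ ⊤)).op (structHom A X a) : Γ(X, U)) • s := by
  refine TopCat.Presheaf.section_ext (C := AddCommGrpCat.{u}) ⟨_, ((TF F).obj M).isSheaf⟩ _ _ _
    fun x hx => ?_
  refine (DerSch.stalkFunctor_map_germ x ((TF F).map (lsm a M)) U hx s).symm.trans ?_
  refine ((lin_GF F x).of_iso (stalkTIso F x).symm M a _).trans ?_
  rw [RingHom.comp_apply, germ_structHom,
    ← X.presheaf.germ_res_apply (homOfLE (le_top : U ≤ ⊤)) x hx]
  exact (gmM_smul ((TF F).obj M) U hx _ _).symm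

/-- Multiplication by a scalar on cohomology. -/
theorem smulAb_eq_map_lsm (M : ModuleCat.{u} A) (a : A) :
    (SheafOfModules.toSheaf X.ringCatSheaf).map ((TF F).map (lsm a M)) =
      Coh.smulAb ((TF F).obj M) (Coh.toGlobal (X ↘ Spec (CommRingCat.of A)) a) := by
  refine CategoryTheory.Sheaf.hom_ext (NatTrans.ext (funext fun U => AddCommGrpCat.ext fun s => ?_))
  refine (TF_map_lsm_app F M a U.unop s).trans ?_
  rw [Coh.smulAb_app]
  rfl

end Groth.Agent.BCModel
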