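import Groth.Agent.BCModel.SectPull
import Groth.Agent.BCModel.Scalar
import Mathlib.AlgebraicGeometry.Morphisms.Flat

/-!
# Sections after base change of the affine base
-/

set_option autoImplicit false
set_option backward.isDefEq.respectTransparency false

noncomputable section

universe u

open CategoryTheory AlgebraicGeometry Opposite TopologicalSpace TensorProduct
open Groth.Agent.QCohBase Groth.Agent.GenLocus

namespace Groth.Agent.BCModel

variable {A B : Type u} [CommRing A] [CommRing B] {X X' : Scheme.{u}} [X.Over (Spec (CommRingCat.of A))]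
  (φ : A →+* B) (g' : X' ⟶ X) (f' : X' ⟶ Spec (CommRingCat.of B))

variable (A) in
/-- Scalars of the base on an open. -/
abbrev baseHom (W : X.Opens) : A →+* Γ(X, W) :=
  (((Scheme.ΓSpecIso (CommRingCat.of A)).inv ≫ (X ↘ Spec (CommRingCat.of A)).appLE ⊤ W le_top)).hom

/-- Scalars of the new base on an open. -/
abbrev fibHom (W : X'.Opens) : B →+* Γ(X', W) :=
  ((Scheme.ΓSpecIso (CommRingCat.of B)).inv ≫ f'.appLE ⊤ W le_top).hom

variable (H : IsPullback g' f' (X ↘ Spec (CommRingCat.of A)) (Spec.map (CommRingCat.ofHom φ)))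

include H

/-- The inverse image of an affine open is affine. -/
lemma isAffineOpen_preimage {W : X.Opens} (hW : IsAffineOpen W) : IsAffineOpen (g' ⁻¹ᵁ W) := by
  haveI : IsAffineHom (Spec.map (CommRingCat.ofHom φ)) := inferInstance
  haveI : IsAffineHom g' := MorphismProperty.of_isPullback (P := @IsAffineHom) H.flip inferInstance
  exact hW.preimage g'

lemma baseHom_comp (W : X.Opens) (a : A) :
    g'.app W (baseHom A W a) = fibHom f' (g' ⁻¹ᵁ W) (φ a) := by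
  have h : CommRingCat.ofHom φ ≫ (Scheme.ΓSpecIso (CommRingCat.of B)).inv =
      (Scheme.ΓSpecIso (CommRingCat.of A)).inv ≫ (Spec.map (CommRingCat.ofHom φ)).appTop :=
    Scheme.ΓSpecIso_inv_naturality _
  have e : (Scheme.ΓSpecIso (CommRingCat.of A)).inv ≫ (X ↘ Spec (CommRingCat.of A)).appLE ⊤ W le_top ≫ g'.app W =
      CommRingCat.ofHom φ ≫ (Scheme.ΓSpecIso (CommRingCat.of B)).inv ≫ f'.appLE ⊤ (g' ⁻¹ᵁ W) le_top := by
    rw [← Category.assoc (CommRingCat.ofHom φ), h, Category.assoc, Scheme.Hom.app_eq_appLE,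
      Scheme.Hom.appLE_comp_appLE]
    refine congrArg _ ?_
    rw [Scheme.Hom.appTop, Scheme.Hom.app_eq_appLE]
    refine Eq.trans ?_ (Scheme.Hom.appLE_comp_appLE f' (Spec.map (CommRingCat.ofHom φ)) ⊤ ⊤ (g' ⁻¹ᵁ W) le_top le_top).symm
    simp only [H.w]
  exact ConcreteCategory.congr_hom e a

/-- Sections on an affine after base change are the base change of the sections. -/
theorem exists_sectEquiv (F : X.Modules) [F.IsQuasicoherent] {W : X.Opens} (hW : IsAffineOpen W) :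
    letI := φ.toAlgebra
    letI := Module.compHom Γ(F, W) (baseHom A W)
    ∃ E : (B ⊗[A] Γ(F, W)) ≃+ Γ((Scheme.Modules.pullback g').obj F, g' ⁻¹ᵁ W),
      ∀ b s, E (b ⊗ₜ s) = fibHom f' (g' ⁻¹ᵁ W) b • pullSec g' F W s := by
  letI := φ.toAlgebra
  letI modM := Module.compHom Γ(F, W) (baseHom A W)
  have hW' := isAffineOpen_preimage φ g' f' H hW
  letI algW : Algebra Γ(X, W) Γ(X', g' ⁻¹ᵁ W) := (g'.app W).hom.toAlgebra
  letI algA : Algebra A Γ(X, W) := (baseHom A W).toAlgebra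
  letI algB : Algebra B Γ(X', g' ⁻¹ᵁ W) := (fibHom f' (g' ⁻¹ᵁ W)).toAlgebra
  letI algA' : Algebra A Γ(X', g' ⁻¹ᵁ W) := ((fibHom f' (g' ⁻¹ᵁ W)).comp φ).toAlgebra
  haveI : IsScalarTower A B Γ(X', g' ⁻¹ᵁ W) := .of_algebraMap_eq fun _ => rfl
  haveI : IsScalarTower A Γ(X, W) Γ(X', g' ⁻¹ᵁ W) :=
    .of_algebraMap_eq fun a => (baseHom_comp φ g' f' H W a).symm
  haveI : IsScalarTower A Γ(X, W) Γ(F, W) := .of_algebraMap_smul fun _ _ => rfl
  have hp := (isIso_pushoutSection_iff H (US := ⊤) (UT := ⊤) (UX := W) (UY := g' ⁻¹ᵁ W)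
    le_top le_top (inf_top_eq _).symm).mp
    (isIso_pushoutSection_of_isAffineOpen H le_top le_top (inf_top_eq _).symm (isAffineOpen_top _)
      (isAffineOpen_top _) hW)
  have hn : (Spec.map (CommRingCat.ofHom φ)).appLE ⊤ ⊤ le_top =
      (Scheme.ΓSpecIso (CommRingCat.of A)).hom ≫ CommRingCat.ofHom φ ≫ (Scheme.ΓSpecIso (CommRingCat.of B)).inv := by
    rw [Scheme.ΓSpecIso_inv_naturality, Iso.hom_inv_id_assoc, Scheme.Hom.appTop, Scheme.Hom.app_eq_appLE]
    rfl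
  have hp' : IsPushout (CommRingCat.ofHom (algebraMap A B)) (CommRingCat.ofHom (algebraMap A Γ(X, W)))
      (CommRingCat.ofHom (algebraMap B Γ(X', g' ⁻¹ᵁ W))) (CommRingCat.ofHom (algebraMap Γ(X, W) Γ(X', g' ⁻¹ᵁ W))) := by
    refine hp.flip.of_iso (Scheme.ΓSpecIso (CommRingCat.of A)) (Scheme.ΓSpecIso (CommRingCat.of B))
      (Iso.refl _) (Iso.refl _) ?_ ?_ ?_ ?_
    · rw [hn]; simp
      rfl
    · simp [RingHom.algebraMap_toAlgebra]
    · simp [RingHom.algebraMap_toAlgebra]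
    · rw [Iso.refl_hom, Iso.refl_hom, Category.comp_id, Category.id_comp, ← Scheme.Hom.app_eq_appLE]
      rfl
  haveI : Algebra.IsPushout A B Γ(X, W) Γ(X', g' ⁻¹ᵁ W) := CommRingCat.isPushout_iff_isPushout.mp hp'
  letI := pullModule g' F W
  haveI : IsScalarTower Γ(X, W) Γ(X', g' ⁻¹ᵁ W) Γ((Scheme.Modules.pullback g').obj F, g' ⁻¹ᵁ W) :=
    .of_algebraMap_smul fun _ _ => rfl
  let e₁ := (Algebra.IsPushout.cancelBaseChange A B Γ(X, W) Γ(X', g' ⁻¹ᵁ W) Γ(F, W))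
  let e₂ := (isBaseChange_pullSec g' F hW hW').equiv
  refine ⟨e₁.symm.toAddEquiv.trans e₂.toAddEquiv, fun b s => ?_⟩
  have h1 : e₁.symm (b ⊗ₜ[A] s) = algebraMap B Γ(X', g' ⁻¹ᵁ W) b ⊗ₜ[Γ(X, W)] s := by
    have hone : e₁.symm ((1 : B) ⊗ₜ[A] s) = (1 : Γ(X', g' ⁻¹ᵁ W)) ⊗ₜ[Γ(X, W)] s := by
      rw [LinearEquiv.symm_apply_eq]
      exact (Algebra.IsPushout.cancelBaseChange_tmul A B Γ(X, W) Γ(X', g' ⁻¹ᵁ W) Γ(F, W) s).symm
    conv_lhs => rw [show b ⊗ₜ[A] s = b • ((1 : B) ⊗ₜ[A] s) by rw [TensorProduct.smul_tmul', smul_eq_mul, mul_one]]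
    rw [map_smul, hone, TensorProduct.smul_tmul', Algebra.smul_def, mul_one]
  show e₂ (e₁.symm (b ⊗ₜ[A] s)) = _
  rw [h1, IsBaseChange.equiv_tmul]
  rfl

end Groth.Agent.BCModel
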