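import Groth.Agent.BCModel.Cech
import Groth.Agent.BCModel.FibreSect

/-!
# The Cech complex after base change of the affine base
-/

set_option autoImplicit false
set_option backward.isDefEq.respectTransparency false

noncomputable section

universe u

open CategoryTheory Limits AlgebraicGeometry Opposite TopologicalSpace TensorProduct
open Groth.Agent.QCohBase Groth.Agent.GenLocus

namespace Groth.Agent.BCModel

variable {A B : Type u} [CommRing A] [CommRing B] {X X' : Scheme.{u}} [X.Over (Spec (CommRingCat.of A))]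
  (φ : A →+* B) (g' : X' ⟶ X) (f' : X' ⟶ Spec (CommRingCat.of B))
  (H : IsPullback g' f' (X ↘ Spec (CommRingCat.of A)) (Spec.map (CommRingCat.ofHom φ)))
  (F : X.Modules)

/-- The new base as a module over the old one. -/
abbrev baseMod : ModuleCat.{u} A :=
  letI := φ.toAlgebra
  ModuleCat.of A B

/-- Multiplication by an element of the new base. -/
def mulHom (b : B) : baseMod φ ⟶ baseMod φ :=
  letI := φ.toAlgebra
  ModuleCat.ofHom (LinearMap.mulLeft A b)

lemma ell_mulHom (b c : B) :
    ell (M := baseMod φ) c ≫ mulHom φ b = ell (M := baseMod φ) (b * c) :=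
  ell_comp (M := baseMod φ) (N := baseMod φ) c (mulHom φ b)

/-- Multiplication by an element of the new base on a module. -/
def scal (N : X'.Modules) (b : B) : N ⟶ N :=
  modHomMk (fun V => (DistribSMul.toAddMonoidHom Γ(N, V) (fibHom f' V b)))
    (fun V W h m => by
      show mres N h (fibHom f' V b • m) = fibHom f' W b • mres N h m
      rw [mres_smul]
      congr 1
      show X'.presheaf.map _ (f'.appLE ⊤ V le_top _) = f'.appLE ⊤ W le_top _
      rw [← CommRingCat.comp_apply, Scheme.Hom.appLE_map])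
    (fun V r m => smul_comm (fibHom f' V b) r m)

lemma scal_app (N : X'.Modules) (b : B) (V : X'.Opens) (m : Γ(N, V)) :
    (scal f' N b).app V m = fibHom f' V b • m := rfl

lemma toSheaf_map_scal (N : X'.Modules) (b : B) :
    (SheafOfModules.toSheaf X'.ringCatSheaf).map (scal f' N b) =
      Coh.smulAb N (Coh.toGlobal f' b) := by
  refine CategoryTheory.Sheaf.hom_ext (NatTrans.ext (funext fun U => AddCommGrpCat.ext fun s => ?_))
  refine (scal_app f' N b U.unop s).trans ?_
  rw [Coh.smulAb_app]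
  rfl

/-- Sections of `F ⊗_A -` on an open. -/
abbrev secFun (W : X.Opens) : ModuleCat.{u} A ⥤ AddCommGrpCat.{u} :=
  TF F ⋙ SheafOfModules.toSheaf X.ringCatSheaf ⋙ sheafToPresheaf _ _ ⋙ (evaluation _ _).obj (op W)

instance additive_secFun (W : X.Opens) : (secFun (A := A) F W).Additive where
  map_add {M N f g} := by
    show ((TF F).map (f + g)).app W = ((TF F).map f).app W + ((TF F).map g).app W
    rw [Functor.map_add]
    rfl

lemma baseHom_eq (W : X.Opens) (a : A) :
    baseHom A W a = X.presheaf.map (homOfLE (le_top : W ≤ ⊤)).op (structHom A X a) := rfl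

variable {F}

lemma cmp_bijective_secFun (hF : Coh.IsQCoh F) (hfl : FlatMod.IsFlatOver (X ↘ Spec (CommRingCat.of A)) F)
    {W : X.Opens} (hW : IsAffineOpen W) (M : ModuleCat.{u} A) :
    Function.Bijective (cmp (secFun F W) M) := by
  refine cmp_bijective _ (fun I s => free_sections (F := F) hW.isCompact s) (fun S hS hg => ?_) M
  have hs : ∀ {S : ShortComplex (ModuleCat.{u} A)}, S.ShortExact → (S.map (secFun F W)).ShortExact := by
    intro S hS
    have hT := shortExact_map_TF hfl hS
    haveI := hT.mono_f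
    haveI := hT.epi_g
    refine { exact := ?_, mono_f := ?_, epi_g := ?_ }
    · rw [ShortComplex.ab_exact_iff]
      exact fun s hs => sections_exact_left hT.exact (U := W) s hs
    · rw [AddCommGrpCat.mono_iff_injective]
      exact app_injective_of_mono (S.map (TF F)).f W
    · rw [AddCommGrpCat.epi_iff_surjective]
      exact app_surjective_of_epi (S.map (TF F)).g (isQCoh_TF hF hfl _) (isQCoh_TF hF hfl _) hW
  exact ((secFun F W).preservesFiniteColimits_tfae.out 3 1 rfl rfl).1
    (((secFun F W).exact_tfae.out 0 3 rfl rfl).1 fun S hS => hs hS).2 S ⟨hS, hg⟩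

include H in
/-- Sections of `F ⊗_A B` on an affine are the sections of the inverse image. -/
theorem exists_psi (hF : Coh.IsQCoh F) (hfl : FlatMod.IsFlatOver (X ↘ Spec (CommRingCat.of A)) F)
    {W : X.Opens} (hW : IsAffineOpen W) :
    ∃ ψ : Γ((TF F).obj (baseMod φ), W) ≃+ Γ((Scheme.Modules.pullback g').obj F, g' ⁻¹ᵁ W),
      ∀ (b : B) (t : Γ((TF F).obj (ModuleCat.of A A), W)),
        ψ (((TF F).map (ell (M := baseMod φ) b)).app W t) =
          fibHom f' (g' ⁻¹ᵁ W) b • pullSec g' F W ((tfSelfIso (A := A) F).hom.app W t) := by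
  letI := φ.toAlgebra
  letI modM := Module.compHom Γ(F, W) (baseHom A W)
  haveI : F.IsQuasicoherent := hF
  obtain ⟨E, hE⟩ := exists_sectEquiv φ g' f' H F hW
  haveI : IsIso ((tfSelfIso (A := A) F).hom.app W) := inferInstance
  let l : val (secFun F W) ≃ₗ[A] Γ(F, W) :=
    LinearEquiv.ofBijective
      ({ toFun := fun t => (tfSelfIso (A := A) F).hom.app W t
         map_add' := fun s t => map_add ((tfSelfIso (A := A) F).hom.app W).hom s t
         map_smul' := fun a t => by
          show (tfSelfIso (A := A) F).hom.app W (((TF F).map (ell (M := ModuleCat.of A A) a)).app W t) =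
            baseHom A W a • (tfSelfIso (A := A) F).hom.app W t
          rw [ell_eq_lsm, TF_map_lsm_app, Scheme.Modules.Hom.app_smul, baseHom_eq] } :
        val (secFun F W) →ₗ[A] Γ(F, W))
      (ConcreteCategory.bijective_of_isIso ((tfSelfIso (A := A) F).hom.app W))
  let c := AddEquiv.ofBijective _ (cmp_bijective_secFun hF hfl hW (baseMod φ))
  refine ⟨c.symm.trans (((l.rTensor (baseMod φ)).trans (TensorProduct.comm A Γ(F, W) B)).toAddEquiv.trans E),
    fun b t => ?_⟩
  have hc : c ((show val (secFun F W) from t) ⊗ₜ[A] (b : baseMod φ)) =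
      ((TF F).map (ell (M := baseMod φ) b)).app W t := rfl
  rw [← hc]
  simp only [AddEquiv.trans_apply]
  refine (congrArg (fun z => E ((((l.rTensor (baseMod φ)).trans (TensorProduct.comm A Γ(F, W) B)).toAddEquiv) z))
    (c.symm_apply_apply _)).trans ?_
  exact hE b _

/-- The comparison on an affine, characterised on generators. -/
def IsPsi (W : X.Opens)
    (ψ : Γ((TF F).obj (baseMod φ), W) →+ Γ((Scheme.Modules.pullback g').obj F, g' ⁻¹ᵁ W)) : Prop :=
  ∀ (b : B) (t : Γ((TF F).obj (ModuleCat.of A A), W)),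
    ψ (((TF F).map (ell (M := baseMod φ) b)).app W t) =
      fibHom f' (g' ⁻¹ᵁ W) b • pullSec g' F W ((tfSelfIso (A := A) F).hom.app W t)

lemma IsPsi.res {W₁ W₂ : X.Opens} (h : W₂ ≤ W₁) {ψ₁ : Γ((TF F).obj (baseMod φ), W₁) →+ Γ((Scheme.Modules.pullback g').obj F, g' ⁻¹ᵁ W₁)}
    {ψ₂ : Γ((TF F).obj (baseMod φ), W₂) →+ Γ((Scheme.Modules.pullback g').obj F, g' ⁻¹ᵁ W₂)}
    (h₁ : IsPsi φ g' f' W₁ ψ₁) (h₂ : IsPsi φ g' f' W₂ ψ₂) (hF : Coh.IsQCoh F)
    (hfl : FlatMod.IsFlatOver (X ↘ Spec (CommRingCat.of A)) F) (hW : IsAffineOpen W₁)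
    (x : Γ((TF F).obj (baseMod φ), W₁)) :
    ψ₂ (mres _ h x) = mres _ (g'.preimage_mono h) (ψ₁ x) := by
  have key : ∀ (b : B) (t : Γ((TF F).obj (ModuleCat.of A A), W₁)),
      ψ₂ (mres _ h (((TF F).map (ell (M := baseMod φ) b)).app W₁ t)) =
        mres _ (g'.preimage_mono h) (ψ₁ (((TF F).map (ell (M := baseMod φ) b)).app W₁ t)) := fun b t => by
    rw [app_nat, h₁, h₂, mres_smul, pullSec_mres g' F h, app_nat]
    congr 1
    show f'.appLE ⊤ _ le_top _ = X'.presheaf.map _ (f'.appLE ⊤ _ le_top _)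
    rw [← CommRingCat.comp_apply (f'.appLE ⊤ _ le_top), Scheme.Hom.appLE_map]
  obtain ⟨z, rfl⟩ := (cmp_bijective_secFun hF hfl hW (baseMod φ)).2 x
  induction z using TensorProduct.induction_on with
  | zero => simp only [map_zero]
  | tmul t b => exact key b t
  | add a b ha hb =>
    rw [map_add]
    exact ((congrArg ψ₂ (map_add _ _ _)).trans (map_add ψ₂ _ _)).trans
      ((congrArg₂ (· + ·) ha hb).trans (((congrArg _ (map_add ψ₁ _ _)).trans (map_add _ _ _)).symm))

lemma IsPsi.scal {W : X.Opens} {ψ : Γ((TF F).obj (baseMod φ), W) →+ Γ((Scheme.Modules.pullback g').obj F, g' ⁻¹ᵁ W)}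
    (h₁ : IsPsi φ g' f' W ψ) (hF : Coh.IsQCoh F)
    (hfl : FlatMod.IsFlatOver (X ↘ Spec (CommRingCat.of A)) F) (hW : IsAffineOpen W) (b : B)
    (x : Γ((TF F).obj (baseMod φ), W)) :
    ψ (((TF F).map (mulHom φ b)).app W x) = fibHom f' (g' ⁻¹ᵁ W) b • ψ x := by
  have key : ∀ (c : B) (t : Γ((TF F).obj (ModuleCat.of A A), W)),
      ψ (((TF F).map (mulHom φ b)).app W (((TF F).map (ell (M := baseMod φ) c)).app W t)) =
        fibHom f' (g' ⁻¹ᵁ W) b • ψ (((TF F).map (ell (M := baseMod φ) c)).app W t) := fun c t => by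
    rw [← ConcreteCategory.comp_apply, ← Scheme.Modules.Hom.comp_app, ← Functor.map_comp, ell_mulHom,
      h₁, h₁, map_mul, mul_smul]
  obtain ⟨z, rfl⟩ := (cmp_bijective_secFun hF hfl hW (baseMod φ)).2 x
  induction z using TensorProduct.induction_on with
  | zero => simp only [map_zero, smul_zero]
  | tmul t c => exact key c t
  | add a c ha hc =>
    rw [map_add]
    exact ((congrArg ψ (map_add _ _ _)).trans (map_add ψ _ _)).trans
      ((congrArg₂ (· + ·) ha hc).trans (((congrArg _ (map_add ψ _ _)).trans (smul_add _ _ _)).symm))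

lemma preimage_inter {ι : Type u} (V : ι → X.Opens) {n : ℕ} (i : Fin n → ι) :
    g' ⁻¹ᵁ (inter V i) = inter (fun k => g' ⁻¹ᵁ V k) i := by
  refine Opens.ext (Set.ext fun x => ?_)
  exact (mem_inter_iff V i (g'.base x)).trans (mem_inter_iff (fun k => g' ⁻¹ᵁ V k) i x).symm

include H in
/-- The Cech complex of `F ⊗_A B` is that of the inverse image. -/
theorem exists_cechIso (hF : Coh.IsQCoh F) (hfl : FlatMod.IsFlatOver (X ↘ Spec (CommRingCat.of A)) F)
    {ι : Type u} (V : ι → X.Opens) (hV : ∀ (n : ℕ) (i : Fin (n + 1) → ι), IsAffineOpen (inter V i)) :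
    ∃ e : (cechTF A F V).obj (baseMod φ) ≅
        (cechMod (fun k => g' ⁻¹ᵁ V k)).obj ((Scheme.Modules.pullback g').obj F),
      ∀ b, (cechTF A F V).map (mulHom φ b) ≫ e.hom =
        e.hom ≫ (cechMod (fun k => g' ⁻¹ᵁ V k)).map (scal f' _ b) := by
  choose ψ hψ using fun (n : ℕ) (i : Fin (n + 1) → ι) => exists_psi φ g' f' H hF hfl (hV n i)
  let F' := (Scheme.Modules.pullback g').obj F
  let V' : ι → X'.Opens := fun k => g' ⁻¹ᵁ V k
  have hle : ∀ {n : ℕ} (i : Fin (n + 1) → ι), inter V' i ≤ g' ⁻¹ᵁ inter V i :=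
    fun i => (preimage_inter g' V i).ge
  have hge : ∀ {n : ℕ} (i : Fin (n + 1) → ι), g' ⁻¹ᵁ inter V i ≤ inter V' i :=
    fun i => (preimage_inter g' V i).le
  let comp : ∀ n, ((cechTF A F V).obj (baseMod φ)).X n ≅ ((cechMod V').obj F').X n := fun n =>
    AddEquiv.toAddCommGrpIso (X := ((cechTF A F V).obj (baseMod φ)).X n) (Y := ((cechMod V').obj F').X n)
      { toFun := fun s i => mres F' (hle i) (ψ n i (s i))
        invFun := fun s i => (ψ n i).symm (mres F' (hge i) (s i))
        left_inv := fun s => funext fun i => by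
          show (ψ n i).symm (mres F' (hge i) (mres F' (hle i) (ψ n i (s i)))) = s i
          rw [mres_mres, mres_refl, AddEquiv.symm_apply_apply]
        right_inv := fun s => funext fun i => by
          show mres F' (hle i) (ψ n i ((ψ n i).symm (mres F' (hge i) (s i)))) = s i
          rw [AddEquiv.apply_symm_apply, mres_mres, mres_refl]
        map_add' := fun s t => funext fun i => (congrArg (mres F' (hle i)) (map_add (ψ n i) _ _)).trans (map_add _ _ _) }
  refine ⟨HomologicalComplex.Hom.isoOfComponents comp ?_, fun b => ?_⟩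
  · rintro n _ rfl
    refine AddCommGrpCat.ext fun s => ?_
    show ((cechMod V').obj F').d n (n + 1) ((comp n).hom s) = (comp (n + 1)).hom (((cechTF A F V).obj (baseMod φ)).d n (n + 1) s)
    refine (cech_d_apply V' F'.presheaf n _).trans ?_
    refine Eq.trans ?_ (congrArg (comp (n + 1)).hom (cech_d_apply V ((TF F).obj (baseMod φ)).presheaf n s).symm)
    funext i
    show (∑ k : Fin (n + 2), (-1 : ℤ) ^ (k : ℕ) • mres F' (inter_comp_le V' i k.succAbove)
        (mres F' (hle _) (ψ n (i ∘ k.succAbove) (s (i ∘ k.succAbove))))) =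
      mres F' (hle i) (ψ (n + 1) i (∑ k : Fin (n + 2), (-1 : ℤ) ^ (k : ℕ) •
        mres ((TF F).obj (baseMod φ)) (inter_comp_le V i k.succAbove) (s (i ∘ k.succAbove))))
    rw [map_sum, map_sum]
    refine Finset.sum_congr rfl fun k _ => ?_
    rw [map_zsmul, map_zsmul]
    refine congrArg _ ?_
    refine Eq.trans ?_ (congrArg (mres F' (hle i))
      (IsPsi.res φ g' f' (inter_comp_le V i k.succAbove) (ψ₁ := (ψ n _).toAddMonoidHom)
        (ψ₂ := (ψ (n + 1) i).toAddMonoidHom) (hψ n _) (hψ (n + 1) i) hF hfl (hV n _) _).symm)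
    rw [mres_mres, mres_mres]
    rfl
  · refine HomologicalComplex.hom_ext _ _ fun n => AddCommGrpCat.ext fun s => funext fun i => ?_
    show mres F' (hle i) (ψ n i (((TF F).map (mulHom φ b)).app (inter V i) (s i))) =
      fibHom f' (inter V' i) b • mres F' (hle i) (ψ n i (s i))
    refine (congrArg (mres F' (hle i))
      (IsPsi.scal φ g' f' (ψ := (ψ n i).toAddMonoidHom) (hψ n i) hF hfl (hV n i) b (s i))).trans ?_
    rw [mres_smul]
    congr 1
    show X'.presheaf.map _ (f'.appLE ⊤ _ le_top _) = f'.appLE ⊤ _ le_top _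
    rw [← CommRingCat.comp_apply, Scheme.Hom.appLE_map]

end Groth.Agent.BCModel
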