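import Groth.Agent.BCModel.FibreCech
import Groth.Agent.BCModel.Consequences
import Groth.Agent.FlatComplex.FieldExt

/-!
# Cohomology of fibres from the model
-/

set_option autoImplicit false
set_option backward.isDefEq.respectTransparency false

noncomputable section

universe u

open CategoryTheory MonoidalCategory Limits AlgebraicGeometry Opposite TopologicalSpace
open scoped TensorProduct
open Groth.Agent.QCohBase

namespace Groth.Agent.BCModel

section Geo

variable {A B : Type u} [CommRing A] [CommRing B] {X X' : Scheme.{u}} [X.Over (Spec (CommRingCat.of A))]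
  (φ : A →+* B) (g' : X' ⟶ X) (f' : X' ⟶ Spec (CommRingCat.of B))
  (H : IsPullback g' f' (X ↘ Spec (CommRingCat.of A)) (Spec.map (CommRingCat.ofHom φ)))

include H

/-- Cohomology after base change is cohomology of `F ⊗_A B`, compatibly with the scalars. -/
theorem exists_fibreEquiv [CompactSpace X] [X.IsSeparated] (F : X.Modules) (hF : Coh.IsQCoh F)
    (hfl : FlatMod.IsFlatOver (X ↘ Spec (CommRingCat.of A)) F) (p : ℕ) :
    ∃ Θ : (TF F ⋙ CohIII.HAb X p).obj (baseMod φ) ≃+ Coh.HH X' ((Scheme.Modules.pullback g').obj F) p,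
      ∀ b x, Θ ((TF F ⋙ CohIII.HAb X p).map (mulHom φ b) x) =
        CategoryTheory.Sheaf.H.map (Coh.smulAb ((Scheme.Modules.pullback g').obj F) (Coh.toGlobal f' b)) p (Θ x) := by
  obtain ⟨ι, _, V, hVaff, hcov⟩ := exists_finite_affine_cover' X
  have hcov' : ⨆ k, V k = ⊤ := eq_top_iff.2 fun x _ => Opens.mem_iSup.2 (hcov x)
  have hV := isAffineOpen_inter (V := V) hVaff
  have hV' : ∀ (n : ℕ) (i : Fin (n + 1) → ι), IsAffineOpen (inter (fun k => g' ⁻¹ᵁ V k) i) := fun n i => by
    rw [← preimage_inter]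
    exact isAffineOpen_preimage φ g' f' H (hV n i)
  have hcovp : ⨆ k, g' ⁻¹ᵁ V k = ⊤ := eq_top_iff.2 fun x _ => Opens.mem_iSup.2 (hcov (g'.base x))
  obtain ⟨eh, he⟩ := exists_cechIso φ g' f' H hF hfl V hV
  obtain ⟨e₁⟩ := nonempty_cechMod_homology_iso V (TF (A := A) F) (isQCoh_TF hF hfl) hcov' hV p
  let P : ObjectProperty X'.Modules := fun N => Coh.IsQCoh N
  obtain ⟨e₂⟩ := nonempty_cechMod_homology_iso (fun k => g' ⁻¹ᵁ V k) (P.ι) (fun N => N.2) hcovp hV' p
  haveI := hF
  let F' := (Scheme.Modules.pullback g').obj F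
  let N : P.FullSubcategory := ⟨F', QCohPull.isQuasicoherent_pullback g' F⟩
  let Ψ : (TF F ⋙ CohIII.HAb X p).obj (baseMod φ) ≅ (CohIII.HAb X' p).obj F' :=
    (e₁.app (baseMod φ)).symm ≪≫ (HomologicalComplex.homologyFunctor _ _ p).mapIso eh ≪≫ e₂.app N
  refine ⟨Ψ.addCommGroupIsoToAddEquiv, fun b x => ?_⟩
  have h : (TF F ⋙ CohIII.HAb X p).map (mulHom φ b) ≫ Ψ.hom = Ψ.hom ≫ (CohIII.HAb X' p).map (scal f' F' b) := by
    have h₁ := e₁.inv.naturality (mulHom φ b)
    have h₃ := e₂.hom.naturality (ObjectProperty.homMk (P := P) (X := N) (Y := N) (scal f' F' b))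
    simp only [Ψ, Iso.trans_hom, Iso.symm_hom, Iso.app_inv, Iso.app_hom, Functor.mapIso_hom, Category.assoc]
    refine ((reassoc_of% h₁) _).trans (congrArg (_ ≫ ·) ?_)
    refine Eq.trans ?_ (congrArg (_ ≫ ·) h₃)
    refine (Category.assoc _ _ _).symm.trans (Eq.trans ?_ (Category.assoc _ _ _))
    refine congrArg (· ≫ _) ?_
    exact ((HomologicalComplex.homologyMap_comp _ _ _).symm.trans
      (congrArg (fun t => HomologicalComplex.homologyMap t p) (he b))).trans (HomologicalComplex.homologyMap_comp _ _ _)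
  refine (ConcreteCategory.congr_hom h x).trans ?_
  show CategoryTheory.Sheaf.H.map ((SheafOfModules.toSheaf X'.ringCatSheaf).map (scal f' F' b)) p _ = _
  rw [toSheaf_map_scal]
  rfl

end Geo

section Alg

variable {A B : Type u} [CommRing A] [CommRing B] (φ : A →+* B) (P : ChainComplex (ModuleCat.{u} A) ℤ)

/-- `H(P ⊗_A B)` with its two descriptions. -/
theorem exists_bcHomologyEquiv (j : ℤ) :
    ∃ Λ : (CohIII.TFun P j).obj (baseMod φ) ≃+ (CohIII.bcCx φ P).homology j,
      ∀ (b : B) (x : (CohIII.TFun P j).obj (baseMod φ)),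
        Λ ((CohIII.TFun P j).map (mulHom φ b) x) = b • Λ x := by
  letI := φ.toAlgebra
  obtain ⟨e, he⟩ := FlatComplex.exists_bcEquiv P B φ
  let G := forget₂ (ModuleCat.{u} A) AddCommGrpCat.{u}
  let G' := forget₂ (ModuleCat.{u} B) AddCommGrpCat.{u}
  let c : ∀ i, (P.X i ⊗[A] B) ≃+ (CohIII.bcCx φ P).X i := fun i =>
    ((TensorProduct.comm A (P.X i) B).toAddEquiv.trans (e i).toAddEquiv)
  have hd : ∀ i i' (z : P.X i ⊗[A] B), (CohIII.bcCx φ P).d i i' (c i z) = c i' ((P.d i i').hom.rTensor B z) := by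
    intro i i' z
    refine (he i i' _).trans (congrArg (e i') ?_)
    show (P.d i i').hom.baseChange B (TensorProduct.comm A (P.X i) B z) =
      TensorProduct.comm A (P.X i') B ((P.d i i').hom.rTensor B z)
    induction z using TensorProduct.induction_on with
    | zero => simp
    | tmul y b => simp
    | add a b ha hb => simp only [map_add, ha, hb]
  let η : (G.mapHomologicalComplex _).obj (CohIII.tensorObj P (baseMod φ)) ≅
      (G'.mapHomologicalComplex _).obj (CohIII.bcCx φ P) :=
    HomologicalComplex.Hom.isoOfComponents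
      (fun i => AddEquiv.toAddCommGrpIso (X := ((G.mapHomologicalComplex _).obj (CohIII.tensorObj P (baseMod φ))).X i)
        (Y := ((G'.mapHomologicalComplex _).obj (CohIII.bcCx φ P)).X i) (c i))
      (fun i i' _ => AddCommGrpCat.ext fun (z : P.X i ⊗[A] B) => hd i i' z)
  have hη : ∀ b : B, (G.mapHomologicalComplex _).map (CohIII.tensorMap P (mulHom φ b)) ≫ η.hom =
      η.hom ≫ (G'.mapHomologicalComplex _).map (b • 𝟙 (CohIII.bcCx φ P)) := by
    intro b
    refine HomologicalComplex.hom_ext _ _ fun i => AddCommGrpCat.ext fun (z : P.X i ⊗[A] B) => ?_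
    show c i ((LinearMap.mulLeft A b).lTensor (P.X i) z) = b • c i z
    induction z using TensorProduct.induction_on with
    | zero => simp
    | tmul y d =>
      show e i ((b * d) ⊗ₜ[A] y) = b • e i (d ⊗ₜ[A] y)
      rw [← map_smul, TensorProduct.smul_tmul', smul_eq_mul]
    | add a d ha hb => simp only [map_add, smul_add, ha, hb]
  let Λ : G.obj ((CohIII.TFun P j).obj (baseMod φ)) ≅ G'.obj ((CohIII.bcCx φ P).homology j) :=
    (ShortComplex.mapHomologyIso ((CohIII.tensorObj P (baseMod φ)).sc j) G).symm ≪≫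
      HomologicalComplex.homologyMapIso η j ≪≫ ShortComplex.mapHomologyIso ((CohIII.bcCx φ P).sc j) G'
  refine ⟨Λ.addCommGroupIsoToAddEquiv, fun b x => ?_⟩
  have h : G.map ((CohIII.TFun P j).map (mulHom φ b)) ≫ Λ.hom =
      Λ.hom ≫ G'.map (HomologicalComplex.homologyMap (b • 𝟙 (CohIII.bcCx φ P)) j) := by
    have h₁ := ShortComplex.mapHomologyIso_inv_naturality
      ((HomologicalComplex.shortComplexFunctor _ _ j).map (CohIII.tensorMap P (mulHom φ b))) G
    have h₃ := ShortComplex.mapHomologyIso_hom_naturality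
      ((HomologicalComplex.shortComplexFunctor _ _ j).map (b • 𝟙 (CohIII.bcCx φ P))) G'
    show G.map (HomologicalComplex.homologyMap (CohIII.tensorMap P (mulHom φ b)) j) ≫ Λ.hom = _
    simp only [Λ, Iso.trans_hom, Iso.symm_hom, Category.assoc]
    refine ((reassoc_of% h₁) _).trans (congrArg (_ ≫ ·) ?_)
    refine Eq.trans ?_ (congrArg (_ ≫ ·) h₃)
    refine (Category.assoc _ _ _).symm.trans (Eq.trans ?_ (Category.assoc _ _ _))
    refine congrArg (· ≫ _) ?_
    exact ((HomologicalComplex.homologyMap_comp _ _ _).symm.trans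
      (congrArg (fun t => HomologicalComplex.homologyMap t j) (hη b))).trans (HomologicalComplex.homologyMap_comp _ _ _)
  refine (ConcreteCategory.congr_hom h x).trans ?_
  have h3 : HomologicalComplex.homologyMap (b • 𝟙 (CohIII.bcCx φ P)) j = b • 𝟙 _ := by
    refine Eq.trans ?_ (congrArg (b • ·) (HomologicalComplex.homologyMap_id _ _))
    exact ShortComplex.homologyMap_smul
      (φ := (HomologicalComplex.shortComplexFunctor _ _ j).map (𝟙 (CohIII.bcCx φ P))) b
  rw [h3]
  rfl

end Alg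

section Rank

variable {A : Type u} [CommRing A] {X : Scheme.{u}} [X.Over (Spec (CommRingCat.of A))]

/-- The fibre dimensions are those of the model. -/
theorem fiberRank_eq_dRank [CompactSpace X] [X.IsSeparated] (F : X.Modules) (hF : Coh.IsQCoh F)
    (hfl : FlatMod.IsFlatOver (X ↘ Spec (CommRingCat.of A)) F)
    (P : ChainComplex (ModuleCat.{u} A) ℤ) (p : ℕ)
    (e : CohIII.TFun P (-(p : ℤ)) ⋙ forget₂ (ModuleCat.{u} A) AddCommGrpCat.{u} ≅ TF F ⋙ CohIII.HAb X p)
    (y : Spec (CommRingCat.of A)) :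
    CohIII.fiberRank (X ↘ Spec (CommRingCat.of A)) F p y = CohIII.dRank P (-(p : ℤ)) y := by
  let f := X ↘ Spec (CommRingCat.of A)
  let κ := (Spec (CommRingCat.of A)).residueField y
  let φ : A →+* κ := (Spec.preimage ((Spec (CommRingCat.of A)).fromSpecResidueField y)).hom
  have hg : Spec.map (CommRingCat.ofHom φ) = (Spec (CommRingCat.of A)).fromSpecResidueField y :=
    Spec.map_preimage _
  have H : IsPullback (f.fiberι y) (f.fiberToSpecResidueField y) f (Spec.map (CommRingCat.ofHom φ)) := by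
    rw [hg]
    exact IsPullback.of_hasPullback _ _
  obtain ⟨Θ, hΘ⟩ := exists_fibreEquiv φ _ _ H F hF hfl p
  obtain ⟨Λ, hΛ⟩ := exists_bcHomologyEquiv φ P (-(p : ℤ))
  let Ψ := (Λ.symm.trans ((e.app (baseMod φ)).addCommGroupIsoToAddEquiv)).trans Θ
  let L : (CohIII.bcCx φ P).homology (-(p : ℤ)) ≃ₗ[κ] CohIII.fiberH f F y p :=
    Ψ.toLinearEquiv fun b z => by
      obtain ⟨x, rfl⟩ := Λ.surjective z
      rw [← hΛ]
      show Θ ((e.app (baseMod φ)).hom (Λ.symm (Λ _))) = b • Θ ((e.app (baseMod φ)).hom (Λ.symm (Λ x)))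
      rw [Λ.symm_apply_apply, Λ.symm_apply_apply]
      refine (congrArg Θ (ConcreteCategory.congr_hom (e.hom.naturality (mulHom φ b)) x)).trans ?_
      exact hΘ b _
  let _ : Algebra A κ := φ.toAlgebra
  let x' : PrimeSpectrum κ := ⊥
  have hbot : PrimeSpectrum.comap φ x' = y := by
    have : (Spec.map (CommRingCat.ofHom φ)).base x' = y := by
      rw [hg]
      exact Scheme.fromSpecResidueField_apply y x'
    exact this
  have h1 : CohIII.dRank (CohIII.bcCx φ P) (-(p : ℤ)) x' =
      Module.finrank κ ((CohIII.bcCx φ P).homology (-(p : ℤ))) :=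
    FlatComplex.finrank_homology_extendScalars (algebraMap κ x'.asIdeal.ResidueField) _ _
  have h2 := FlatComplex.dRank_bcCx (A' := κ) P (-(p : ℤ)) x'
  calc CohIII.fiberRank f F p y = Module.finrank κ ((CohIII.bcCx φ P).homology (-(p : ℤ))) :=
        L.finrank_eq.symm
    _ = CohIII.dRank (CohIII.bcCx φ P) (-(p : ℤ)) x' := h1.symm
    _ = CohIII.dRank P (-(p : ℤ)) (PrimeSpectrum.comap φ x') := h2
    _ = CohIII.dRank P (-(p : ℤ)) y := by rw [hbot]

end Rank

end Groth.Agent.BCModel
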