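import Groth.Agent.BCModel.Algebra
import Groth.Agent.BCModel.Cech
import Groth.Agent.BCModel.Scalar
import Groth.Agent.QCohBase.HighDegree
import Groth.Agent.CohFinite.Proper

/-!
# A finite free complex computing cohomology after base change
-/

noncomputable section

set_option backward.isDefEq.respectTransparency false

universe u

open CategoryTheory MonoidalCategory Limits AlgebraicGeometry Opposite TopologicalSpace
open scoped TensorProduct

namespace Groth.Agent.BCModel

open Groth.Agent.QCohBase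

variable {A : Type u} [CommRing A]

section Extend

variable {C : Type*} [Category C] [Preadditive C] [HasZeroObject C] [CategoryWithHomology C]

/-- The cohomology of the extension of a complex, naturally. -/
def extendHNatIso (n : ℕ) :
    ComplexShape.embeddingUpNat.extendFunctor C ⋙ HomologicalComplex.homologyFunctor C (ComplexShape.up ℤ) (n : ℤ) ≅
      HomologicalComplex.homologyFunctor C (ComplexShape.up ℕ) n :=
  NatIso.ofComponents
    (fun K => K.extendHomologyIso ComplexShape.embeddingUpNat (j := n) (j' := (n : ℤ)) rfl) (fun {K L} φ => by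
    show HomologicalComplex.homologyMap (HomologicalComplex.extendMap φ _) _ ≫ _ = _ ≫ HomologicalComplex.homologyMap φ n
    rw [← cancel_epi ((K.extend ComplexShape.embeddingUpNat).homologyπ (n : ℤ)),
      HomologicalComplex.homologyπ_naturality_assoc,
      HomologicalComplex.homologyπ_extendHomologyIso_hom,
      HomologicalComplex.homologyπ_extendHomologyIso_hom_assoc,
      HomologicalComplex.homologyπ_naturality, ← Category.assoc, ← Category.assoc]
    congr 1
    rw [← cancel_mono (L.iCycles n)]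
    simp [HomologicalComplex.extendMap_f φ ComplexShape.embeddingUpNat (i := n) (i' := (n : ℤ)) rfl])

end Extend

lemma FinSupp.of_iso {K L : ModuleCat.{u} A ⥤ AddCommGrpCat.{u}} (e : K ≅ L) (hK : FinSupp K) :
    FinSupp L := by
  intro I s
  obtain ⟨J, hJ⟩ := hK I ((e.app _).inv s)
  refine ⟨J, ?_⟩
  have hz : (e.app _).hom ((e.app _).inv s) = s := by
    rw [← ConcreteCategory.comp_apply, Iso.inv_hom_id]; rfl
  conv_lhs => rw [← hz, hJ, map_sum]
  refine Finset.sum_congr rfl fun i _ => ?_
  have h1 := ConcreteCategory.congr_hom (e.inv.naturality (ModuleCat.ofHom (Finsupp.lapply (R := A) (M := A) i))) s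
  simp only [ConcreteCategory.comp_apply] at h1
  simp only [Iso.app_hom, Iso.app_inv]
  rw [← h1]
  have h2 := fun z => ConcreteCategory.congr_hom (e.hom.naturality (ell (M := ModuleCat.of A (I →₀ A)) (Finsupp.single i (1 : A)))) z
  simp only [ConcreteCategory.comp_apply] at h2
  rw [h2, ← ConcreteCategory.comp_apply (e.inv.app _), Iso.inv_hom_id_app]
  rfl

variable {X : Scheme.{u}} [X.Over (Spec (CommRingCat.of A))] (F : X.Modules) {ι : Type u} (V : ι → X.Opens)

variable (A) in
/-- The Cech complexes, indexed by integers. -/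
abbrev cechZ : ModuleCat.{u} A ⥤ CochainComplex AddCommGrpCat.{u} ℤ :=
  cechTF A F V ⋙ ComplexShape.embeddingUpNat.extendFunctor AddCommGrpCat.{u}

instance additive_cechZ (n : ℤ) :
    (cechZ A F V ⋙ HomologicalComplex.eval AddCommGrpCat.{u} (ComplexShape.up ℤ) n).Additive := by
  haveI : (SheafOfModules.toSheaf X.ringCatSheaf).Additive := inferInstance
  haveI : (cechMod (X := X) V).Additive := Functor.instAdditiveComp _ _
  infer_instance

/-- The nonnegative degrees. -/
def degZIso (n : ℕ) : deg (cechZ A F V) (n : ℤ) ≅ deg (cechTF A F V) n :=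
  NatIso.ofComponents
    (fun M => ((cechTF A F V).obj M).extendXIso ComplexShape.embeddingUpNat (i := n) (i' := (n : ℤ)) rfl)
    (fun {M N} φ => by
      show (HomologicalComplex.extendMap ((cechTF A F V).map φ) _).f (n : ℤ) ≫ _ = _
      rw [HomologicalComplex.extendMap_f _ ComplexShape.embeddingUpNat (i := n) (i' := (n : ℤ)) rfl]
      simp)

/-- The negative degrees. -/
lemma isZero_degZ (n : ℤ) (h : n < 0) (M : ModuleCat.{u} A) : IsZero ((deg (cechZ A F V) n).obj M) :=
  HomologicalComplex.isZero_extend_X _ _ _ fun i => by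
    show (i : ℤ) ≠ n
    omega

variable {F V}

lemma finSupp_cechZ [Finite ι] (hV : ∀ (n : ℕ) (i : Fin (n + 1) → ι), IsAffineOpen (inter V i)) (n : ℤ) :
    FinSupp (deg (cechZ A F V) n) := by
  rcases lt_or_ge n 0 with h | h
  · intro I s
    haveI := AddCommGrpCat.subsingleton_of_isZero (isZero_degZ F V n h (ModuleCat.of A (I →₀ A)))
    exact ⟨∅, Subsingleton.elim _ _⟩
  · lift n to ℕ using h
    exact (finSupp_cechTF hV n).of_iso (degZIso F V n).symm

variable (hF : Coh.IsQCoh F) (hfl : FlatMod.IsFlatOver (X ↘ Spec (CommRingCat.of A)) F)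
  (hV : ∀ (n : ℕ) (i : Fin (n + 1) → ι), IsAffineOpen (inter V i))

include hF hfl hV

lemma exact_cechZ (n : ℤ) :
    PreservesFiniteLimits (deg (cechZ A F V) n) ∧ PreservesFiniteColimits (deg (cechZ A F V) n) := by
  rcases lt_or_ge n 0 with h | h
  · refine ((deg (cechZ A F V) n).exact_tfae.out 0 3 rfl rfl).1 fun S _ =>
      { exact := ShortComplex.exact_of_isZero_X₂ _ (isZero_degZ F V n h _)
        mono_f := ⟨fun _ _ _ => (isZero_degZ F V n h _).eq_of_tgt _ _⟩
        epi_g := ⟨fun _ _ _ => (isZero_degZ F V n h _).eq_of_src _ _⟩ }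
  · lift n to ℕ using h
    obtain ⟨h₁, h₂⟩ := exact_cechTF hF hfl hV n
    exact ⟨preservesFiniteLimits_of_natIso (degZIso F V n).symm,
      preservesFiniteColimits_of_natIso (degZIso F V n).symm⟩

lemma hepi_cechZ (n : ℤ) (S : ShortComplex (ModuleCat.{u} A)) (hS : S.Exact) (hg : Epi S.g) :
    (S.map (deg (cechZ A F V) n)).Exact ∧ Epi (S.map (deg (cechZ A F V) n)).g :=
  ((deg (cechZ A F V) n).preservesFiniteColimits_tfae.out 3 1 rfl rfl).1
    (exact_cechZ hF hfl hV n).2 S ⟨hS, hg⟩

/-- The degrees are flat. -/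
theorem flat_cechZ [Finite ι] (n : ℤ) : Module.Flat A ((valCx (cechZ A F V)).X n) := by
  rw [Module.Flat.iff_lTensor_preserves_injective_linearMap]
  intro N N' _ _ _ _ g hg
  haveI := (exact_cechZ hF hfl hV n).1
  haveI : Mono (ModuleCat.ofHom g) := (ModuleCat.mono_iff_injective _).2 hg
  intro a b hab
  have h : Function.Injective ((deg (cechZ A F V) n).map (ModuleCat.ofHom g)) :=
    (AddCommGrpCat.mono_iff_injective _).1 inferInstance
  refine (cmp_bijective _ (finSupp_cechZ hV n) (hepi_cechZ hF hfl hV n) (ModuleCat.of A N)).1 (h ?_)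
  refine (cmp_natural (deg (cechZ A F V) n) (ModuleCat.ofHom g) a).symm.trans (Eq.trans ?_
    (cmp_natural (deg (cechZ A F V) n) (ModuleCat.ofHom g) b))
  exact congrArg (cmp (deg (cechZ A F V) n) (ModuleCat.of A N')) hab

/-- The complex computes the cohomology of `F ⊗_A M`. -/
theorem nonempty_cechZ_iso [Finite ι] (hcov : ⨆ k, V k = ⊤) (p : ℕ) :
    Nonempty (CohIII.TFun (valCx (cechZ A F V)) (p : ℤ) ⋙ forget₂ (ModuleCat.{u} A) AddCommGrpCat.{u} ≅
      TF F ⋙ CohIII.HAb X p) := by
  obtain ⟨e₁⟩ := nonempty_cmpIso (cechZ A F V) (finSupp_cechZ hV) (hepi_cechZ hF hfl hV) (p : ℤ)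
  obtain ⟨e₂⟩ := nonempty_cechMod_homology_iso V (TF (A := A) F) (isQCoh_TF hF hfl) hcov hV p
  exact ⟨e₁ ≪≫ Functor.isoWhiskerLeft (cechTF A F V) (extendHNatIso p) ≪≫ e₂⟩

omit hF hfl hV in
/-- Finite intersections of affines of a separated scheme are affine. -/
lemma isAffineOpen_inter [X.IsSeparated] (hU : ∀ i, IsAffineOpen (V i)) :
    ∀ (n : ℕ) (i : Fin (n + 1) → ι), IsAffineOpen (inter V i) := by
  intro n
  induction n with
  | zero =>
    intro i
    have : inter V i = V (i 0) := le_antisymm (iInf_le _ _) (le_iInf fun a => by rw [show a = 0 from Fin.ext (by omega)])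
    rw [this]
    exact hU _
  | succ n ih =>
    intro i
    have : inter V i = V (i 0) ⊓ inter V (i ∘ Fin.succ) :=
      le_antisymm (le_inf (iInf_le _ 0) (le_iInf fun a => iInf_le _ a.succ))
        (le_iInf (Fin.cases inf_le_left fun a => inf_le_right.trans (iInf_le _ a)))
    rw [this]
    exact (hU _).inf (ih _)

end Groth.Agent.BCModel

namespace Groth.Agent.BCModel

open Groth.Agent.QCohBase

variable {A : Type u} [CommRing A] {X : Scheme.{u}} [X.Over (Spec (CommRingCat.of A))]

/-- The cohomology of the model is finite: its module structure is the natural one. -/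
theorem finite_homology_of_natIso [IsNoetherianRing A] (C : DRing.Cx A) (F : X.Modules)
    [IsProper (X ↘ Spec (CommRingCat.of A))] (hF : Coh.IsCoh F) (p : ℕ)
    (e : CohIII.TFun C (p : ℤ) ⋙ forget₂ (ModuleCat.{u} A) AddCommGrpCat.{u} ≅ TF F ⋙ CohIII.HAb X p) :
    Module.Finite A (C.homology (p : ℤ)) := by
  let E : (CohIII.TFun C (p : ℤ)).obj (ModuleCat.of A A) →+ Coh.HH X ((TF F).obj (ModuleCat.of A A)) p :=
    (e.hom.app (ModuleCat.of A A)).hom
  have hlin : ∀ (a : A) (x : (CohIII.TFun C (p : ℤ)).obj (ModuleCat.of A A)), E (a • x) = a • E x := by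
    intro a x
    have h1 : CohIII.tensorMap C (lsm a (ModuleCat.of A A)) = a • 𝟙 _ := by
      refine HomologicalComplex.hom_ext _ _ fun n => ?_
      refine ModuleCat.MonoidalCategory.tensor_ext fun y t => ?_
      exact TensorProduct.tmul_smul a y t
    have h2 : (CohIII.TFun C (p : ℤ)).map (lsm a (ModuleCat.of A A)) x = a • x := by
      show (HomologicalComplex.homologyMap (CohIII.tensorMap C (lsm a (ModuleCat.of A A))) (p : ℤ)) x = _
      rw [h1]
      have h3 : HomologicalComplex.homologyMap (a • 𝟙 (CohIII.tensorObj C (ModuleCat.of A A))) (p : ℤ) =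
          a • 𝟙 _ := by
        refine Eq.trans ?_ (congrArg (a • ·) (HomologicalComplex.homologyMap_id _ _))
        exact ShortComplex.homologyMap_smul
          (φ := (HomologicalComplex.shortComplexFunctor _ _ (p : ℤ)).map (𝟙 (CohIII.tensorObj C (ModuleCat.of A A)))) a
      rw [h3]
      rfl
    rw [← h2]
    refine (ConcreteCategory.congr_hom (e.hom.naturality (lsm a (ModuleCat.of A A))) x).trans ?_
    show CategoryTheory.Sheaf.H.map ((SheafOfModules.toSheaf X.ringCatSheaf).map ((TF F).map (lsm a _))) p (E x) = _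
    rw [smulAb_eq_map_lsm]
    rfl
  haveI := CohFinite.finite_of_iso (A := A) (tfSelfIso (A := A) F).symm p (CohFinite.finite_HH_proper F hF p)
  let L : (CohIII.TFun C (p : ℤ)).obj (ModuleCat.of A A) →ₗ[A] Coh.HH X ((TF F).obj (ModuleCat.of A A)) p :=
    { toFun := E, map_add' := E.map_add, map_smul' := hlin }
  haveI : Module.Finite A ((CohIII.TFun C (p : ℤ)).obj (ModuleCat.of A A)) :=
    Module.Finite.of_injective L ((ConcreteCategory.bijective_of_isIso (e.hom.app (ModuleCat.of A A))).1)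
  have e₀ : (CohIII.TFun C (p : ℤ)).obj (ModuleCat.of A A) ≅ C.homology (p : ℤ) :=
    HomologicalComplex.homologyMapIso ((NatIso.mapHomologicalComplex
      (rightUnitorNatIso (ModuleCat.{u} A)) (ComplexShape.up ℤ)).app C) (p : ℤ)
  exact Module.Finite.equiv e₀.toLinearEquiv

/-- A complex of finite free modules computing the cohomology of `F ⊗_A -`, in all degrees. -/
theorem exists_model' [IsNoetherianRing A] [IsProper (X ↘ Spec (CommRingCat.of A))] (F : X.Modules)
    (hF : Coh.IsCoh F) (hfl : FlatMod.IsFlatOver (X ↘ Spec (CommRingCat.of A)) F) :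
    ∃ (L : DRing.Cx A) (b : ℤ), DRing.TermwiseFiniteFree L ∧ DRing.VanishesAbove L b ∧
      (∀ i < 0, ∀ M, IsZero ((CohIII.TFun L i).obj M)) ∧
      ∀ p : ℕ, Nonempty (CohIII.TFun L (p : ℤ) ⋙ forget₂ (ModuleCat.{u} A) AddCommGrpCat.{u} ≅
        TF F ⋙ CohIII.HAb X p) := by
  haveI := LocallyOfFiniteType.isLocallyNoetherian (X ↘ Spec (CommRingCat.of A))
  haveI : CompactSpace X := QuasiCompact.compactSpace_of_compactSpace (X ↘ Spec (CommRingCat.of A))
  haveI : X.IsSeparated := ⟨by rw [← terminal.comp_from (X ↘ Spec (CommRingCat.of A))]; infer_instance⟩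
  obtain ⟨ι, _, V, hVaff, hcov⟩ := exists_finite_affine_cover' X
  have hcov' : ⨆ k, V k = ⊤ := eq_top_iff.2 fun x _ => Opens.mem_iSup.2 (hcov x)
  have hV := isAffineOpen_inter (V := V) hVaff
  have hnat := fun p => nonempty_cechZ_iso (A := A) hF.1 hfl hV hcov' p
  obtain ⟨d, hd⟩ := exists_bound_subsingleton_HH X
  have htens : ∀ i, (d : ℤ) < i → ∀ M, (CohIII.tensorObj (valCx (cechZ A F V)) M).ExactAt i := by
    intro i hi M
    lift i to ℕ using by omega
    obtain ⟨e⟩ := hnat i
    haveI : Subsingleton ((TF F ⋙ CohIII.HAb X i).obj M) := hd _ (isQCoh_TF hF.1 hfl M) i (by omega)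
    rw [HomologicalComplex.exactAt_iff_isZero_homology]
    haveI : Subsingleton ((CohIII.tensorObj (valCx (cechZ A F V)) M).homology (i : ℤ)) :=
      (ConcreteCategory.bijective_of_isIso (e.hom.app M)).1.subsingleton
    exact ModuleCat.isZero_of_subsingleton _
  have hfin : ∀ i, Module.Finite A ((valCx (cechZ A F V)).homology i) := by
    intro i
    rcases lt_or_ge i 0 with h | h
    · haveI : Subsingleton ((valCx (cechZ A F V)).X i) :=
        AddCommGrpCat.subsingleton_of_isZero (isZero_degZ F V i h _)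
      exact finite_homology _ i
    · lift i to ℕ using h
      obtain ⟨e⟩ := hnat i
      exact finite_homology_of_natIso _ F hF i e
  have hself : ∀ i, (d : ℤ) < i → (valCx (cechZ A F V)).ExactAt i := fun i hi =>
    (htens i hi (ModuleCat.of A A)).of_iso ((NatIso.mapHomologicalComplex
      (rightUnitorNatIso (ModuleCat.{u} A)) (ComplexShape.up ℤ)).app _)
  obtain ⟨L, hL, hb, hiso⟩ := exists_finiteFree_model _ (flat_cechZ hF.1 hfl hV) hfin d hself htens
  refine ⟨L, d, hL, hb, fun i hi M => ?_, fun p => ?_⟩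
  · obtain ⟨e₁⟩ := hiso i
    refine IsZero.of_iso ?_ (e₁.app M)
    haveI : Subsingleton ((valCx (cechZ A F V)).X i) :=
      AddCommGrpCat.subsingleton_of_isZero (isZero_degZ F V i hi _)
    exact (ShortComplex.exact_iff_isZero_homology _).1 (ShortComplex.exact_of_isZero_X₂
      ((CohIII.tensorObj (valCx (cechZ A F V)) M).sc i)
      ((tensorRight M).map_isZero (ModuleCat.isZero_of_subsingleton ((valCx (cechZ A F V)).X i))))
  obtain ⟨e₁⟩ := hiso p
  obtain ⟨e₂⟩ := hnat p
  exact ⟨Functor.isoWhiskerRight e₁ _ ≪≫ e₂⟩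

/-- A complex of finite free modules computing the cohomology of `F ⊗_A -`. -/
theorem exists_model [IsNoetherianRing A] [IsProper (X ↘ Spec (CommRingCat.of A))] (F : X.Modules)
    (hF : Coh.IsCoh F) (hfl : FlatMod.IsFlatOver (X ↘ Spec (CommRingCat.of A)) F) :
    ∃ (L : DRing.Cx A) (b : ℤ), DRing.TermwiseFiniteFree L ∧ DRing.VanishesAbove L b ∧
      ∀ p : ℕ, Nonempty (CohIII.TFun L (p : ℤ) ⋙ forget₂ (ModuleCat.{u} A) AddCommGrpCat.{u} ≅
        TF F ⋙ CohIII.HAb X p) := by
  obtain ⟨L, b, hL, hb, -, h⟩ := exists_model' F hF hfl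
  exact ⟨L, b, hL, hb, h⟩

/-- The chain complex form of the model, bounded and universally exact above degree zero. -/
theorem exists_chainModel' [IsNoetherianRing A] [IsProper (X ↘ Spec (CommRingCat.of A))] (F : X.Modules)
    (hF : Coh.IsCoh F) (hfl : FlatMod.IsFlatOver (X ↘ Spec (CommRingCat.of A)) F) :
    ∃ P : ChainComplex (ModuleCat.{u} A) ℤ, (∀ i, Module.Finite A (P.X i) ∧ Module.Free A (P.X i)) ∧
      (∃ b : ℤ, ∀ i < b, Subsingleton (P.X i)) ∧
      (∀ j, 0 < j → ∀ M, Subsingleton ((CohIII.TFun P j).obj M)) ∧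
      ∀ p : ℕ, Nonempty (CohIII.TFun P (-(p : ℤ)) ⋙ forget₂ (ModuleCat.{u} A) AddCommGrpCat.{u} ≅
        TF F ⋙ CohIII.HAb X p) := by
  obtain ⟨L, b, hL, hb, hneg, hiso⟩ := exists_model' F hF hfl
  refine ⟨toChain L, fun i => hL _, ⟨-b, fun i hi => ModuleCat.subsingleton_of_isZero (hb (-i) (by omega))⟩,
    fun j hj M => ModuleCat.subsingleton_of_isZero ((hneg (-j) (by omega) M).of_iso ((TFunChainIso L j).app M)),
    fun p => ?_⟩
  obtain ⟨e⟩ := hiso p
  exact ⟨Functor.isoWhiskerRight (TFunChainIso L (-(p : ℤ)) ≪≫ eqToIso (by rw [neg_neg])) _ ≪≫ e⟩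

/-- The chain complex form of the model. -/
theorem exists_chainModel [IsNoetherianRing A] [IsProper (X ↘ Spec (CommRingCat.of A))] (F : X.Modules)
    (hF : Coh.IsCoh F) (hfl : FlatMod.IsFlatOver (X ↘ Spec (CommRingCat.of A)) F) :
    ∃ P : ChainComplex (ModuleCat.{u} A) ℤ, (∀ i, Module.Finite A (P.X i) ∧ Module.Free A (P.X i)) ∧
      (∀ i, Module.Finite A (P.X i) ∧ Module.Flat A (P.X i)) ∧ (∀ i, Module.Flat A (P.X i)) ∧
      ∀ p : ℕ, Nonempty (CohIII.TFun P (-(p : ℤ)) ⋙ forget₂ (ModuleCat.{u} A) AddCommGrpCat.{u} ≅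
        TF F ⋙ CohIII.HAb X p) := by
  obtain ⟨L, b, hL, -, hiso⟩ := exists_model F hF hfl
  have hflat : ∀ i, Module.Flat A ((toChain L).X i) := fun i => by
    haveI : Module.Free A ((toChain L).X i) := (hL _).2
    infer_instance
  refine ⟨toChain L, fun i => hL _, fun i => ⟨(hL _).1, hflat i⟩, hflat, fun p => ?_⟩
  obtain ⟨e⟩ := hiso p
  exact ⟨Functor.isoWhiskerRight (TFunChainIso L (-(p : ℤ)) ≪≫ eqToIso (by rw [neg_neg])) _ ≪≫ e⟩

end Groth.Agent.BCModel
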