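import Groth.Agent.BCModel.FibreH
import Groth.Agent.FlatComplex.Reduced
import Groth.Agent.FlatComplex.BaseChange
import Groth.Agent.FlatComplex.Tensor
import Groth.Agent.FlatComplex.Homology

/-!
# Local algebra for complexes computing cohomology of fibres
-/

set_option autoImplicit false
set_option backward.isDefEq.respectTransparency false

noncomputable section

universe u

open CategoryTheory MonoidalCategory Limits
open scoped TensorProduct
open Groth.Agent.FlatComplex

namespace Groth.Agent.BCModel

variable {A : Type u} [CommRing A] [IsNoetherianRing A] (P : ChainComplex (ModuleCat.{u} A) ℤ)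
  (hP : ∀ i, Module.Finite A (P.X i) ∧ Module.Flat A (P.X i))

/-- The homology kernel in degree `j`. -/
abbrev HK (j : ℤ) : Type u := LinearMap.ker (dbar P (j + 1) j (j - 1))

include hP

lemma finite_HK (j : ℤ) : Module.Finite A (HK P j) :=
  haveI := (hP j).1
  Module.Finite.iff_fg.2 (IsNoetherian.noetherian _)

/-- A vanishing fibre: right exactness and vanishing nearby. -/
theorem of_dRank_eq_zero {j : ℤ} {x : PrimeSpectrum A} (h : CohIII.dRank P j x = 0) :
    x ∈ Module.freeLocus A (Cok P j (j - 1)) ∧ x ∉ Module.support A (HK P j) := by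
  let R := Localization.AtPrime x.asIdeal
  let φ := algebraMap A R
  let P' := CohIII.bcCx φ P
  haveI : IsNoetherianRing R := IsLocalization.isNoetherianRing x.asIdeal.primeCompl R inferInstance
  obtain ⟨e, -⟩ := exists_bcEquiv P R φ
  have hP' : ∀ i, Module.Finite R (P'.X i) ∧ Module.Flat R (P'.X i) := fun i =>
    ⟨by
      letI := φ.toAlgebra
      haveI := (hP i).1
      exact Module.Finite.equiv (e i), flat_bcCx_X P (fun i => (hP i).2) R φ rfl i⟩
  let c := IsLocalRing.closedPoint R
  let κ := c.asIdeal.ResidueField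
  let ψ := algebraMap R κ
  have hc : PrimeSpectrum.comap φ c = x :=
    PrimeSpectrum.ext (IsLocalization.AtPrime.comap_maximalIdeal R x.asIdeal)
  let Q := CohIII.bcCx ψ P'
  obtain ⟨e', -⟩ := exists_bcEquiv P' κ ψ
  haveI : Module.Finite κ (Q.X j) := by
    letI := ψ.toAlgebra
    haveI := (hP' j).1
    exact Module.Finite.equiv (e' j)
  haveI : Module.Finite κ (Q.homology j) := finite_homology Q j
  have h0 : CohIII.dRank P' j c = 0 := by rw [dRank_bcCx (A' := R) P j c, hc, h]
  haveI hQ : Subsingleton (Q.homology j) := Module.finrank_zero_iff.1 h0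
  obtain ⟨Λ, -⟩ := exists_bcHomologyEquiv ψ P' j
  haveI : Subsingleton ((CohIII.TFun P' j).obj (baseMod ψ)) := Λ.toEquiv.subsingleton
  haveI : c.asIdeal.IsMaximal := IsLocalRing.maximalIdeal.isMaximal R
  let ε : IsLocalRing.ResidueField R ≃ₗ[R] κ :=
    LinearEquiv.ofBijective (IsScalarTower.toAlgHom R (R ⧸ c.asIdeal) κ).toLinearMap
      (Ideal.bijective_algebraMap_quotient_residueField c.asIdeal)
  haveI hT : Subsingleton ((CohIII.TFun P' j).obj (baseMod ψ)) := Λ.toEquiv.subsingleton
  let iκ : Algebra R κ := inferInstance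
  have hinst : ψ.toAlgebra = iκ := Algebra.algebra_ext _ _ fun _ => rfl
  have hbase : baseMod ψ = ModuleCat.of R κ :=
    congrArg (fun i : Algebra R κ => @ModuleCat.of R _ κ _ i.toModule) hinst
  rw [hbase] at hT
  haveI hk : Subsingleton ((CohIII.TFun P' j).obj (ModuleCat.of R (IsLocalRing.ResidueField R))) :=
    @Equiv.subsingleton _ _ ((CohIII.TFun P' j).mapIso ε.toModuleIso).toLinearEquiv.toEquiv hT
  obtain ⟨hepi, -, hall⟩ := subsingleton_of_residueField P' hP' hk
  refine ⟨(setOf_preservesEpi_localization_eq P j hP).subset hepi, ?_⟩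
  haveI : Subsingleton (P'.homology j) := by
    exact @Equiv.subsingleton _ _ (HomologicalComplex.homologyMapIso ((NatIso.mapHomologicalComplex
      (rightUnitorNatIso (ModuleCat.{u} R)) (ComplexShape.down ℤ)).app P') j).toLinearEquiv.toEquiv.symm
      (hall (ModuleCat.of R R))
  obtain ⟨Λ', -⟩ := exists_bcHomologyEquiv φ P j
  have hT' : Subsingleton ((CohIII.TFun P j).obj (baseMod φ)) := Λ'.toEquiv.subsingleton
  let iR : Algebra A R := inferInstance
  have hinst' : φ.toAlgebra = iR := Algebra.algebra_ext _ _ fun _ => rfl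
  have hbase' : baseMod φ = ModuleCat.of A R :=
    congrArg (fun i : Algebra A R => @ModuleCat.of A _ R _ i.toModule) hinst'
  rw [hbase'] at hT'
  obtain ⟨ι, -, hrange, -⟩ := exists_toCok P (rfl : j + 1 = j + 1) (sub_add_cancel j 1)
  let K : Submodule A (Cok P (j + 1) j) := LinearMap.ker (dbar P (j + 1) j (j - 1))
  haveI : Module.Flat A R := IsLocalization.flat R x.asIdeal.primeCompl
  have hinj : Function.Injective (K.subtype.rTensor R) :=
    Module.Flat.rTensor_preserves_injective_linearMap _ (Submodule.injective_subtype _)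
  haveI : Subsingleton (K ⊗[A] R) := by
    refine subsingleton_of_forall_eq 0 fun z => hinj ?_
    have hz : (dbar P (j + 1) j (j - 1)).rTensor R (K.subtype.rTensor R z) = 0 := by
      rw [← LinearMap.rTensor_comp_apply,
        show (dbar P (j + 1) j (j - 1)) ∘ₗ K.subtype = 0 from LinearMap.ext fun k => k.2,
        LinearMap.rTensor_zero, LinearMap.zero_apply]
    obtain ⟨w, hw⟩ := (SetLike.ext_iff.1 (hrange (ModuleCat.of A R)) _).2 hz
    refine hw.symm.trans ?_
    rw [map_zero, hT'.elim w 0]
    exact map_zero _
  haveI : Subsingleton (LocalizedModule x.asIdeal.primeCompl K) :=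
    ((LocalizedModule.equivTensorProduct x.asIdeal.primeCompl K).toEquiv.trans
      (TensorProduct.comm A R K).toEquiv).subsingleton
  exact fun hx => not_subsingleton_iff_nontrivial.2 (Module.mem_support_iff.1 hx) inferInstance

/-- A flat cokernel below and flat homology give a flat cokernel. -/
theorem flat_cok_succ {j : ℤ} (hC : Module.Flat A (Cok P j (j - 1))) (hK : Module.Flat A (HK P j)) :
    Module.Flat A (Cok P (j + 1) j) := by
  let f := dbar P (j + 1) j (j - 1)
  haveI : Module.Flat A (LinearMap.range f) := by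
    rw [range_dbar]; exact flat_range P (hP _).2 hC
  refine (flat_ker_iff f.rangeRestrict f.surjective_rangeRestrict).1 ?_
  rw [LinearMap.ker_rangeRestrict]
  exact hK

/-- Flat cokernels on both sides: projective homology of the fibre rank. -/
theorem of_flat {j : ℤ} (h₁ : Module.Flat A (Cok P (j + 1) j)) (h₀ : Module.Flat A (Cok P j (j - 1))) :
    Module.Projective A (HK P j) ∧ ∀ x, CohIII.dRank P j x = Module.rankAtStalk (R := A) (HK P j) x := by
  let f := dbar P (j + 1) j (j - 1)
  let C₁ := Cok P (j + 1) j
  let C₀ := Cok P j (j - 1)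
  haveI := (hP j).1
  haveI := (hP (j - 1)).1
  haveI := (hP (j - 1)).2
  let I := LinearMap.range f
  haveI hI : Module.Flat A I := by
    show Module.Flat A (LinearMap.range f)
    rw [range_dbar]; exact flat_range P (hP _).2 h₀
  haveI : Module.Finite A I := Module.Finite.range f
  haveI := finite_HK P hP j
  haveI : Module.Flat A (LinearMap.ker f.rangeRestrict) :=
    (flat_ker_iff f.rangeRestrict f.surjective_rangeRestrict).2 h₁
  haveI hKfl : Module.Flat A (HK P j) :=
    Module.Flat.of_linearEquiv (LinearEquiv.ofEq _ _ (LinearMap.ker_rangeRestrict f)).symm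
  have hproj : ∀ (M : Type u) [AddCommGroup M] [Module A M] [Module.Finite A M] [Module.Flat A M],
      Module.Projective A M := fun M _ _ _ _ =>
    haveI := Module.finitePresentation_of_finite A M
    Module.Flat.projective_of_finitePresentation
  haveI : Module.Projective A I := hproj I
  haveI : Module.Projective A C₀ := hproj C₀
  refine ⟨hproj _, fun x => ?_⟩
  have hadd := dRank_add P (rfl : j + 1 = j + 1) (sub_add_cancel j 1) (hP j).1 (hP _).1 x
  rw [fiberDim_eq_rankAtStalk (P.X (j - 1)) x, fiberDim_eq_rankAtStalk C₁ x, fiberDim_eq_rankAtStalk C₀ x] at hadd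
  have hr₁ : Module.rankAtStalk (R := A) C₁ x =
      Module.rankAtStalk (R := A) (HK P j) x + Module.rankAtStalk (R := A) I x := by
    obtain ⟨s, hs⟩ := Module.projective_lifting_property f.rangeRestrict LinearMap.id f.surjective_rangeRestrict
    obtain ⟨E, -⟩ := ((LinearMap.exact_subtype_ker_map f.rangeRestrict).splitSurjectiveEquiv
      (Submodule.injective_subtype _)) ⟨s, hs⟩
    rw [Module.rankAtStalk_eq_of_equiv (E.trans (LinearEquiv.prodCongr
      (LinearEquiv.ofEq _ _ (LinearMap.ker_rangeRestrict f)) (LinearEquiv.refl A I))), Module.rankAtStalk_prod]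
    rfl
  have hr₀ : Module.rankAtStalk (R := A) (P.X (j - 1)) x =
      Module.rankAtStalk (R := A) I x + Module.rankAtStalk (R := A) C₀ x := by
    have hex : Function.Exact I.subtype (LinearMap.range (P.d j (j - 1)).hom).mkQ := by
      rw [LinearMap.exact_iff, Submodule.ker_mkQ, Submodule.range_subtype]
      exact (range_dbar P _ _ _).symm
    obtain ⟨s, hs⟩ := Module.projective_lifting_property (LinearMap.range (P.d j (j - 1)).hom).mkQ
      LinearMap.id (Submodule.mkQ_surjective _)
    obtain ⟨E, -⟩ := hex.splitSurjectiveEquiv (Submodule.injective_subtype _) ⟨s, hs⟩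
    rw [Module.rankAtStalk_eq_of_equiv E, Module.rankAtStalk_prod]
    rfl
  omega

/-- Universal vanishing in degree `j` gives two flat cokernels. -/
theorem flat_of_universal_vanishing {j : ℤ} (h : ∀ M, Subsingleton ((CohIII.TFun P j).obj M)) :
    Module.Flat A (Cok P (j + 1) j) ∧ Module.Flat A (Cok P j (j - 1)) :=
  ⟨(preservesMono_iff_flat P (rfl : j + 1 = j + 1) (hP _).2).1
      ((preservesMono_iff P j).2 fun _ N g _ a b _ => (h _).elim a b),
    (preservesEpi_iff_flat P (sub_add_cancel j 1) (hP _).2 (hP _).2).1
      ((preservesEpi_iff P j).2 fun M N g _ b => ⟨0, (h N).elim _ _⟩)⟩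

/-- With flat homology up to `n`, all cokernels up to `n` are flat. -/
theorem flat_cok_of_flat_homology {b n : ℤ} (hb : ∀ i < b, Subsingleton (P.X i))
    (h : ∀ j ≤ n, Module.Flat A (HK P j)) : ∀ j ≤ n, Module.Flat A (Cok P (j + 1) j) := by
  suffices ∀ k : ℕ, ∀ j, j ≤ n → j < b + k → Module.Flat A (Cok P (j + 1) j) from
    fun j hj => this (j - b + 1).toNat j hj (by omega)
  intro k
  induction k with
  | zero =>
    intro j _ hj
    haveI := hb j (by omega)
    haveI : Subsingleton (Cok P (j + 1) j) := (Submodule.mkQ_surjective _).subsingleton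
    infer_instance
  | succ k ih =>
    intro j hj hk
    by_cases hlt : j < b + k
    · exact ih j hj hlt
    · have hC := ih (j - 1) (by omega) (by omega)
      rw [sub_add_cancel] at hC
      exact flat_cok_succ P hP hC (h j hj)

end Groth.Agent.BCModel
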