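import Groth.Agent.BCModel.Local
import Groth.Agent.BCModel.Consequences
import Groth.Agent.BCModel.Model
import Groth.Agent.BCModel.Scalar
import Groth.Prelude.Def_Formal

/-!
# Reduction modulo powers of an ideal as a base change
-/

set_option autoImplicit false
set_option backward.isDefEq.respectTransparency false

noncomputable section

universe u

open CategoryTheory MonoidalCategory Limits AlgebraicGeometry Opposite TopologicalSpace
open Groth.Agent.QCohBase Groth.Agent.FlatComplex

namespace Groth.Agent.BCModel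

variable {A : Type u} [CommRing A] {X : Scheme.{u}} [X.Over (Spec (CommRingCat.of A))]
  {F : X.Modules} (hfl : FlatMod.IsFlatOver (X ↘ Spec (CommRingCat.of A)) F)

lemma hhMap_id_apply' (M : X.Modules) (n : ℕ) (y : Coh.HH X M n) :
    CohFinite.hhMap A (𝟙 M) n y = y := by
  have key : ∀ f : (QCohBase.modAb X).obj M ⟶ (QCohBase.modAb X).obj M, f = 𝟙 _ →
      ∀ z : CategoryTheory.Sheaf.H ((QCohBase.modAb X).obj M) n,
        CategoryTheory.Sheaf.H.map f n z = z := by
    rintro f rfl z
    exact CategoryTheory.Sheaf.H.map_id_apply z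
  exact key _ ((QCohBase.modAb X).map_id M) y

lemma TF_lsm_tfSelf (a : A) :
    (TF F).map (lsm a (ModuleCat.of A A)) ≫ (tfSelfIso (A := A) F).hom =
      (tfSelfIso (A := A) F).hom ≫ Formal.smulMod A F a := by
  ext U s
  show (tfSelfIso (A := A) F).hom.app U (((TF F).map (lsm a (ModuleCat.of A A))).app U s) =
    (X.presheaf.map (homOfLE (le_top : U ≤ ⊤)).op (structHom A X a) : Γ(X, U)) •
      (tfSelfIso (A := A) F).hom.app U s
  rw [TF_map_lsm_app, Scheme.Modules.Hom.app_smul]

include hfl

/-- The quotient by an ideal is a retract of base change to the quotient ring. -/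
theorem exists_retract_modQuot [IsNoetherianRing A] (J : Ideal A) :
    ∃ r : (TF F).obj (ModuleCat.of A (A ⧸ J)) ⟶ cokernel (Formal.smulFamily J F),
      (∃ s, s ≫ r = 𝟙 _) ∧
      (TF F).map (ModuleCat.ofHom (Submodule.mkQ J)) ≫ r =
        (tfSelfIso (A := A) F).hom ≫ cokernel.π (Formal.smulFamily J F) := by
  classical
  obtain ⟨n, a, ha⟩ := Submodule.fg_iff_exists_fin_generating_family.1 (IsNoetherian.noetherian J)
  let π := (tfSelfIso (A := A) F).hom ≫ cokernel.π (Formal.smulFamily J F)
  have hkill : ∀ b ∈ J, (TF F).map (lsm b (ModuleCat.of A A)) ≫ π = 0 := fun b hb => by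
    rw [← Category.assoc, TF_lsm_tfSelf, Category.assoc,
      show Formal.smulMod A F b = Sigma.ι (fun _ : J => F) ⟨b, hb⟩ ≫ Formal.smulFamily J F by
        simp [Formal.smulFamily],
      Category.assoc, cokernel.condition, comp_zero, comp_zero]
  let p : ModuleCat.of A (Fin n → A) ⟶ ModuleCat.of A A := ModuleCat.ofHom
    (∑ k : Fin n, (LinearMap.lsmul A A (a k)) ∘ₗ LinearMap.proj k)
  let q : ModuleCat.of A A ⟶ ModuleCat.of A (A ⧸ J) := ModuleCat.ofHom (Submodule.mkQ J)
  have hpq : p ≫ q = 0 := ModuleCat.hom_ext (LinearMap.ext fun v => by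
    refine (Submodule.Quotient.mk_eq_zero J).2 ?_
    show (∑ k : Fin n, (LinearMap.lsmul A A (a k)) ∘ₗ LinearMap.proj k) v ∈ J
    rw [LinearMap.sum_apply]
    refine sum_mem fun k _ => J.mul_mem_right _ (ha ▸ Submodule.subset_span ⟨k, rfl⟩))
  have hex : (ShortComplex.mk p q hpq).Exact := by
    rw [ShortComplex.moduleCat_exact_iff]
    intro x hx
    have hxJ : (show A from x) ∈ J := (Submodule.Quotient.mk_eq_zero J).1 hx
    rw [← ha] at hxJ
    obtain ⟨c, hc⟩ := (Submodule.mem_span_range_iff_exists_fun A).1 hxJ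
    refine ⟨c, ?_⟩
    show (∑ k : Fin n, (LinearMap.lsmul A A (a k)) ∘ₗ LinearMap.proj k) c = x
    rw [LinearMap.sum_apply, ← hc]
    exact Finset.sum_congr rfl fun k _ => mul_comm _ _
  haveI hq : Epi q := (ModuleCat.epi_iff_surjective q).2 (Submodule.mkQ_surjective J)
  haveI : (TF (A := A) F).Additive := additive_TF F
  have hT := ((TF (A := A) F).preservesFiniteColimits_tfae.out 3 1 rfl rfl).1
    (((TF (A := A) F).exact_tfae.out 0 3 rfl rfl).1 fun S hS => shortExact_map_TF hfl hS).2
    (ShortComplex.mk p q hpq) ⟨hex, hq⟩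
  haveI : Epi ((TF F).map q) := hT.2
  haveI : Epi ((ShortComplex.mk p q hpq).map (TF F)).g := hT.2
  have hz : (TF F).map p ≫ π = 0 := by
    have hp : p = ∑ k : Fin n, ModuleCat.ofHom (LinearMap.proj k) ≫ lsm (a k) (ModuleCat.of A A) :=
      ModuleCat.hom_ext (by rw [ModuleCat.hom_sum]; rfl)
    rw [hp, Functor.map_sum, Preadditive.sum_comp]
    exact Finset.sum_eq_zero fun k _ => by
      rw [Functor.map_comp, Category.assoc, hkill _ (ha ▸ Submodule.subset_span ⟨k, rfl⟩), comp_zero]
  obtain ⟨r, hr⟩ := CokernelCofork.IsColimit.desc' hT.1.gIsCokernel π hz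
  refine ⟨r, ⟨cokernel.desc _ ((tfSelfIso (A := A) F).inv ≫ (TF F).map q) ?_, ?_⟩, hr⟩
  · refine Sigma.hom_ext _ _ fun b => ?_
    rw [comp_zero, ← Category.assoc,
      show Sigma.ι (fun _ : J => F) b ≫ Formal.smulFamily J F = Formal.smulMod A F (b : A) by
        simp [Formal.smulFamily],
      ← Category.assoc,
      show Formal.smulMod A F (b : A) ≫ (tfSelfIso (A := A) F).inv =
          (tfSelfIso (A := A) F).inv ≫ (TF F).map (lsm (b : A) (ModuleCat.of A A)) by
        rw [Iso.eq_inv_comp, ← Category.assoc, Iso.comp_inv_eq, TF_lsm_tfSelf],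
      Category.assoc, ← Functor.map_comp,
      show lsm (b : A) (ModuleCat.of A A) ≫ q = 0 from ModuleCat.hom_ext (LinearMap.ext fun v =>
        (Submodule.Quotient.mk_eq_zero J).2 (J.mul_mem_right _ b.2)),
      Functor.map_zero, comp_zero]
  · rw [← cancel_epi (cokernel.π (Formal.smulFamily J F)), cokernel.π_desc_assoc, Category.assoc, Category.comp_id,
      show (TF F).map q ≫ r = π from hr, Iso.inv_hom_id_assoc]

/-- Vanishing on the closed fibre makes reduction surjective. -/
theorem surjective_toHHmodPow [IsNoetherianRing A] [IsLocalRing A] [IsProper (X ↘ Spec (CommRingCat.of A))]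
    (hF : Coh.IsCoh F) (n : ℕ)
    (h : CohIII.fiberRank (X ↘ Spec (CommRingCat.of A)) F (n + 1) (IsLocalRing.closedPoint A) = 0)
    (I : Ideal A) (p : ℕ) : Function.Surjective (Formal.toHHmodPow I F n p) := by
  haveI : CompactSpace X := QuasiCompact.compactSpace_of_compactSpace (X ↘ Spec (CommRingCat.of A))
  haveI : X.IsSeparated := ⟨by rw [← terminal.comp_from (X ↘ Spec (CommRingCat.of A))]; infer_instance⟩
  obtain ⟨P, hfree, -, -, hiso⟩ := exists_chainModel' (A := A) F hF hfl
  have hP : ∀ i, Module.Finite A (P.X i) ∧ Module.Flat A (P.X i) := fun i =>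
    ⟨(hfree i).1, haveI := (hfree i).2; inferInstance⟩
  obtain ⟨e'⟩ := hiso (n + 1)
  rw [fiberRank_eq_dRank F hF.1 hfl P (n + 1) e'] at h
  obtain ⟨hC, hK⟩ := of_dRank_eq_zero P hP h
  let j : ℤ := -((n + 1 : ℕ) : ℤ)
  haveI := (hP (j - 1)).1
  haveI := Module.finitePresentation_of_finite A (Cok P j (j - 1))
  have huniv : Module.freeLocus A (Cok P j (j - 1)) = Set.univ :=
    Set.eq_univ_of_forall fun x => (IsLocalRing.specializes_closedPoint x).mem_open Module.isOpen_freeLocus hC
  haveI : Module.Projective A (Cok P j (j - 1)) := Module.freeLocus_eq_univ_iff.1 huniv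
  haveI := finite_HK P hP j
  haveI : Subsingleton (HK P j) := Module.support_eq_empty_iff.1 (Set.eq_empty_of_forall_notMem fun x hx =>
    hK (Module.isClosed_support.closure_subset_iff.2 (Set.singleton_subset_iff.2 hx)
      ((IsLocalRing.specializes_closedPoint x).mem_closure)))
  have hflat := flat_cok_succ P hP (j := j) inferInstance inferInstance
  rw [show j = -(n : ℤ) - 1 by omega, sub_add_cancel] at hflat
  have hepi : (CohIII.TFun P (-(n : ℤ))).PreservesEpimorphisms :=
    (preservesEpi_iff_flat P (sub_add_cancel _ 1) (hP _).2 (hP _).2).2 hflat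
  obtain ⟨e⟩ := hiso n
  let q : ModuleCat.of A A ⟶ ModuleCat.of A (A ⧸ I ^ (p + 1)) := ModuleCat.ofHom (Submodule.mkQ _)
  have hs : Function.Surjective ((TF F ⋙ CohIII.HAb X n).map q).hom :=
    (surjective_map_iff e q).2 ((preservesEpi_iff P _).1 hepi q (Submodule.mkQ_surjective _))
  obtain ⟨r, ⟨s, hsr⟩, hr⟩ := exists_retract_modQuot hfl (I ^ (p + 1))
  intro y
  obtain ⟨x, hx⟩ := hs (CohFinite.hhMap A s n y)
  refine ⟨CohFinite.hhMap A (tfSelfIso (A := A) F).hom n x, ?_⟩
  show CohFinite.hhMap A (cokernel.π (Formal.smulFamily (I ^ (p + 1)) F)) n _ = y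
  rw [← CohFinite.hhMap_comp, ← hr, CohFinite.hhMap_comp,
    show CohFinite.hhMap A ((TF F).map q) n x = CohFinite.hhMap A s n y from hx, ← CohFinite.hhMap_comp, hsr]
  exact hhMap_id_apply' _ n y

end Groth.Agent.BCModel
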