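import Groth.Agent.BCModel.Chart
import Groth.Agent.BCModel.FlatBC
import Groth.Agent.FlatOver.Basic

/-!
# Stalks of higher direct images as cohomology over the local ring
-/

set_option autoImplicit false
set_option backward.isDefEq.respectTransparency false

noncomputable section

universe u

open CategoryTheory Limits AlgebraicGeometry Opposite TopologicalSpace TensorProduct
open Groth.Agent.QCohBase

namespace Groth.Agent.BCModel

/-- The stalk of a higher direct image is the cohomology over the local ring. -/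
theorem nonempty_stalk_Rpush_equiv {X Y : Scheme.{u}} (f : X ⟶ Y) [IsSeparated f] [QuasiCompact f]
    (F : X.Modules) (hF : Coh.IsQCoh F) (y : Y) (p : ℕ)
    (X₁ : Scheme.{u}) [X₁.Over (Spec (CommRingCat.of (Y.presheaf.stalk y)))] (g : X₁ ⟶ X)
    (hsq : IsPullback g (X₁ ↘ Spec (CommRingCat.of (Y.presheaf.stalk y))) f (Y.fromSpecStalk y)) :
    Nonempty (((Coh.Rpush f p).obj F).presheaf.stalk y ≃ₗ[Y.presheaf.stalk y]
      Coh.HH X₁ ((Scheme.Modules.pullback g).obj F) p) := by
  obtain ⟨_, ⟨U, hU, rfl⟩, hy, -⟩ :=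
    Y.isBasis_affineOpens.exists_subset_of_mem_open (Set.mem_univ y) isOpen_univ
  let A := Γ(Y, U)
  let O := Y.presheaf.stalk y
  let φ : A →+* O := (Y.presheaf.germ U y hy).hom
  let R := (Coh.Rpush f p).obj F
  haveI : R.IsQuasicoherent := RPushQCoh.isQCoh_Rpush f F hF p
  let W := f ⁻¹ᵁ U
  letI iW : W.toScheme.Over (Spec (CommRingCat.of A)) := ⟨f ∣_ U ≫ hU.isoSpec.hom⟩
  haveI : IsSeparated (f ∣_ U) := MorphismProperty.of_isPullback (isPullback_morphismRestrict f U).flip ‹_›
  haveI : QuasiCompact (f ∣_ U) := MorphismProperty.of_isPullback (isPullback_morphismRestrict f U).flip ‹_›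
  haveI : CompactSpace W.toScheme :=
    QuasiCompact.compactSpace_of_compactSpace (f ∣_ U ≫ hU.isoSpec.hom)
  haveI : W.toScheme.IsSeparated :=
    ⟨by rw [← terminal.comp_from (f ∣_ U ≫ hU.isoSpec.hom)]; infer_instance⟩
  have hfs : Spec.map (CommRingCat.ofHom φ) ≫ hU.fromSpec = Y.fromSpecStalk y :=
    hU.fromSpecStalk_eq_fromSpecStalk hy
  have sqU : IsPullback W.ι (W.toScheme ↘ Spec (CommRingCat.of A)) f hU.fromSpec := by
    refine (isPullback_morphismRestrict f U).flip.of_iso (Iso.refl _) (Iso.refl _) hU.isoSpec (Iso.refl _)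
      ?_ ?_ ?_ ?_
    · simp [W]
    · exact (Category.id_comp _).symm
    · simp
    · simp
  have hg : Set.range g ⊆ Set.range W.ι := by
    rw [Scheme.Opens.range_ι]
    rintro _ ⟨z, rfl⟩
    show f (g z) ∈ U
    rw [← Scheme.Hom.comp_apply, hsq.w, ← hfs, Scheme.Hom.comp_apply, Scheme.Hom.comp_apply]
    exact hU.range_fromSpec.subset ⟨_, rfl⟩
  let g' := IsOpenImmersion.lift W.ι g hg
  have hgf : g' ≫ W.ι = g := IsOpenImmersion.lift_fac _ _ _
  have H : IsPullback g' (X₁ ↘ Spec (CommRingCat.of O)) (W.toScheme ↘ Spec (CommRingCat.of A))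
      (Spec.map (CommRingCat.ofHom φ)) := by
    refine IsPullback.of_right (by rw [hgf, hfs]; exact hsq) ?_ sqU
    rw [← cancel_mono hU.fromSpec, Category.assoc, Category.assoc, ← sqU.w, ← Category.assoc, hgf, hfs]
    exact hsq.w
  letI : Algebra A O := φ.toAlgebra
  haveI : IsLocalization.AtPrime O (hU.primeIdealOf ⟨y, hy⟩).asIdeal := hU.isLocalization_stalk ⟨y, hy⟩
  haveI : Module.Flat A O := IsLocalization.flat O (hU.primeIdealOf ⟨y, hy⟩).asIdeal.primeCompl
  obtain ⟨e₁⟩ := nonempty_HH_baseChange φ (RingHom.flat_algebraMap_iff.2 ‹Module.Flat A O›) g' H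
    ((Scheme.Modules.pullback W.ι).obj F) (haveI := hF; QCohPull.isQuasicoherent_pullback W.ι F) p
  obtain ⟨e₂⟩ := nonempty_sections_Rpush_equiv f F hF hU p
  letI := FlatOver.germModule R y hy
  haveI : IsScalarTower A O (R.presheaf.stalk y) := .of_algebraMap_smul fun _ _ => rfl
  haveI := FlatOver.isLocalizedModule_germₗ R hU y hy
  have hbc : IsBaseChange O (FlatOver.germₗ R y hy) :=
    (isLocalizedModule_iff_isBaseChange (hU.primeIdealOf ⟨y, hy⟩).asIdeal.primeCompl _ _).1 inferInstance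
  exact ⟨(hbc.equiv.symm.trans (LinearEquiv.baseChange A O _ _ e₂)).trans (e₁.trans
    (CohFinite.hhEquiv O ((Scheme.Modules.pullbackComp g' W.ι).app F ≪≫
      (Scheme.Modules.pullbackCongr hgf).app F) p))⟩

end Groth.Agent.BCModel
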