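import Groth.Agent.DCohBridge.StalkTensor
import Groth.Agent.DCohBridge.StalkPull
import Groth.Agent.DCohBridge.TildeKFlat
import Groth.Agent.QCohBase.CohRestrict
import Groth.Agent.QCohBase.CohProps
import Groth.Agent.TensorMod.Invertible
import Groth.Prelude.Def_ega3
import Groth.Prelude.Def_FlatMod2

/-!
# The functor `M ↦ F ⊗_A M`
-/

noncomputable section

set_option backward.isDefEq.respectTransparency false

universe u

open CategoryTheory MonoidalCategory Limits AlgebraicGeometry Opposite TopologicalSpace
open scoped TensorProduct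

namespace Groth.Agent.BCModel

open Groth.Agent.DCohBridge Groth.Agent.QCohBase

variable {A : Type u} [CommRing A]

/-- The map `A → M` at an element. -/
def ell {M : ModuleCat.{u} A} (m : M) : ModuleCat.of A A ⟶ M :=
  ModuleCat.ofHom (LinearMap.toSpanSingleton A M m)

lemma ell_apply {M : ModuleCat.{u} A} (m : M) (a : A) : ell m a = a • m := rfl

section Gen

variable {R S : Type u} [CommRing R] [CommRing S]

/-- The functor is generated by its value at `A`. -/
def Gen (K : ModuleCat.{u} A ⥤ ModuleCat.{u} R) : Prop :=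
  ∀ (M : ModuleCat.{u} A) (z : K.obj M),
    z ∈ AddSubmonoid.closure {y | ∃ (m : M) (w : K.obj (ModuleCat.of A A)), y = K.map (ell m) w}

lemma Gen.extendScalars {K : ModuleCat.{u} A ⥤ ModuleCat.{u} R} (hK : Gen K) (φ : R →+* S) :
    Gen (K ⋙ ModuleCat.extendScalars.{u, u, u} φ) := by
  intro M z
  letI := φ.toAlgebra
  change z ∈ AddSubmonoid.closure _
  induction z using TensorProduct.induction_on with
  | zero => exact zero_mem _
  | tmul s e =>
    induction hK M e using AddSubmonoid.closure_induction with
    | mem y hy =>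
      obtain ⟨m, w, rfl⟩ := hy
      refine AddSubmonoid.subset_closure ⟨m, (s ⊗ₜ[R] w : _), ?_⟩
      exact (ModuleCat.ExtendScalars.map_tmul (f := φ) (K.map (ell m)) s w).symm
    | zero => rw [TensorProduct.tmul_zero]; exact zero_mem _
    | add a b _ _ ha hb => rw [TensorProduct.tmul_add]; exact add_mem ha hb
  | add a b ha hb => exact add_mem ha hb

lemma Gen.tensorRight {K : ModuleCat.{u} A ⥤ ModuleCat.{u} R} (hK : Gen K) (N : ModuleCat.{u} R) :
    Gen (K ⋙ MonoidalCategory.tensorRight N) := by
  intro M z
  change z ∈ AddSubmonoid.closure _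
  induction z using TensorProduct.induction_on with
  | zero => exact zero_mem _
  | tmul e y =>
    induction hK M e using AddSubmonoid.closure_induction with
    | mem y' hy =>
      obtain ⟨m, w, rfl⟩ := hy
      exact AddSubmonoid.subset_closure ⟨m, (w ⊗ₜ[R] y : _), rfl⟩
    | zero => rw [TensorProduct.zero_tmul]; exact zero_mem _
    | add a b _ _ ha hb => rw [TensorProduct.add_tmul]; exact add_mem ha hb
  | add a b ha hb => exact add_mem ha hb

lemma gen_extendScalars (φ : A →+* S) : Gen (ModuleCat.extendScalars.{u, u, u} φ) := by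
  intro M z
  letI := φ.toAlgebra
  induction z using TensorProduct.induction_on with
  | zero => exact zero_mem _
  | tmul s e =>
    refine AddSubmonoid.subset_closure ⟨e, (s ⊗ₜ[A] (1 : A) : _), ?_⟩
    refine Eq.trans ?_ (ModuleCat.ExtendScalars.map_tmul (f := φ) (ell e) s (1 : A)).symm
    rw [ell_apply, one_smul]
  | add a b ha hb => exact add_mem ha hb

lemma Gen.of_iso {K L : ModuleCat.{u} A ⥤ ModuleCat.{u} R} (e : K ≅ L) (hK : Gen K) : Gen L := by
  intro M z
  have h := hK M ((e.app M).inv z)
  have hz : (e.app M).hom ((e.app M).inv z) = z := by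
    rw [← ConcreteCategory.comp_apply, Iso.inv_hom_id]; rfl
  rw [← hz]
  generalize (e.app M).inv z = w at h
  induction h using AddSubmonoid.closure_induction with
  | mem y hy =>
    obtain ⟨m, w, rfl⟩ := hy
    refine AddSubmonoid.subset_closure ⟨m, (e.app _).hom w, ?_⟩
    rw [← ConcreteCategory.comp_apply, ← ConcreteCategory.comp_apply]
    exact ConcreteCategory.congr_hom (e.hom.naturality (ell m)) w
  | zero => rw [map_zero]; exact zero_mem _
  | add a b _ _ ha hb => rw [map_add]; exact add_mem ha hb

end Gen

/-- Base change followed by tensoring with a module flat over the base preserves injections. -/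
lemma injective_baseChange_rTensor {R S N E E' : Type u} [CommRing R] [CommRing S] [Algebra R S]
    [AddCommGroup N] [Module S N] [Module R N] [IsScalarTower R S N] [Module.Flat R N]
    [AddCommGroup E] [Module R E] [AddCommGroup E'] [Module R E'] (g : E →ₗ[R] E')
    (hg : Function.Injective g) : Function.Injective ((g.baseChange S).rTensor N) := by
  let e := fun (E : Type u) [AddCommGroup E] [Module R E] =>
    (TensorProduct.comm S (S ⊗[R] E) N).trans (TensorProduct.AlgebraTensorModule.cancelBaseChange R S S N E)
  have h : ∀ z, e E' ((g.baseChange S).rTensor N z) = g.lTensor N (e E z) := fun z => by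
    induction z using TensorProduct.induction_on with
    | zero => simp
    | tmul a n =>
      induction a using TensorProduct.induction_on with
      | zero => simp
      | tmul s x => simp [e]
      | add a b ha hb => rw [TensorProduct.add_tmul, map_add, map_add, map_add, map_add, ha, hb]
    | add a b ha hb => rw [map_add, map_add, map_add, map_add, ha, hb]
  intro a b hab
  refine (e E).injective (Module.Flat.lTensor_preserves_injective_linearMap g hg ?_)
  rw [← h, ← h, hab]

variable {X : Scheme.{u}} [X.Over (Spec (CommRingCat.of A))] (F : X.Modules)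

/-- The functor. -/
abbrev TF : ModuleCat.{u} A ⥤ X.Modules := CohIII.tensorAFunctor A F

variable (A) in
/-- The stalk of the functor at a point. -/
def GF (x : X) : ModuleCat.{u} A ⥤ ModuleCat.{u} (X.presheaf.stalk x) :=
  ((tilde.functor (CommRingCat.of A) ⋙
    DerSch.stalkFunctor (Spec (CommRingCat.of A)) ((X ↘ Spec (CommRingCat.of A)).base x)) ⋙
      extSt (X ↘ Spec (CommRingCat.of A)) x) ⋙
    MonoidalCategory.tensorRight ((DerSch.stalkFunctor X x).obj F)

/-- The stalk of `F ⊗_A M`. -/
def stalkTIso (x : X) : TF F ⋙ DerSch.stalkFunctor X x ≅ GF A F x :=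
  NatIso.ofComponents
    (fun M => stalkTensorIso x _ F ≪≫ MonoidalCategory.whiskerRightIso
      ((stalkPullIso (X ↘ Spec (CommRingCat.of A)) x).app ((tilde.functor (CommRingCat.of A)).obj M)) _)
    (fun {M M'} φ => by
      have h1 := theta_natural x ((Scheme.Modules.pullback (X ↘ Spec (CommRingCat.of A))).map
        ((tilde.functor (CommRingCat.of A)).map φ)) (𝟙 F)
      rw [CategoryTheory.Functor.map_id, Category.comp_id, CategoryTheory.Functor.map_id, tensorHom_id] at h1
      have h2 := (stalkPullIso (X ↘ Spec (CommRingCat.of A)) x).hom.naturality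
        ((tilde.functor (CommRingCat.of A)).map φ)
      simp only [Iso.trans_hom, stalkTensorIso, asIso_hom, MonoidalCategory.whiskerRightIso_hom,
        Iso.app_hom, Category.assoc]
      refine ((reassoc_of% h1) _).trans ?_
      refine congrArg (theta x _ F ≫ ·) ?_
      exact ((comp_whiskerRight _ _ _).symm.trans (congrArg (· ▷ _) h2)).trans (comp_whiskerRight _ _ _))

lemma gen_GF (x : X) : Gen (GF A F x) :=
  ((Gen.of_iso (stalkTildeIso (CommRingCat.of A) _).symm (gen_extendScalars _)).extendScalars _).tensorRight _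

instance preservesFiniteColimits_GF (x : X) : PreservesFiniteColimits (GF A F x) := by
  haveI : PreservesFiniteColimits (tilde.functor (CommRingCat.of A)) := (tilde_exact _).2
  haveI : PreservesColimitsOfSize.{u, u} (MonoidalCategory.tensorRight ((DerSch.stalkFunctor X x).obj F)) :=
    preservesColimits_of_natIso (BraidedCategory.tensorLeftIsoTensorRight _)
  haveI : PreservesFiniteColimits (MonoidalCategory.tensorRight ((DerSch.stalkFunctor X x).obj F)) :=
    PreservesColimitsOfSize.preservesFiniteColimits _
  haveI : PreservesFiniteColimits (extSt (X ↘ Spec (CommRingCat.of A)) x) := by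
    haveI : PreservesColimitsOfSize.{u, u} (extSt (X ↘ Spec (CommRingCat.of A)) x) :=
      (ModuleCat.extendRestrictScalarsAdj.{u, u, u} _).leftAdjoint_preservesColimits
    exact PreservesColimitsOfSize.preservesFiniteColimits _
  unfold GF
  infer_instance

instance additive_GF (x : X) : (GF A F x).Additive := by
  haveI := preservesBinaryBiproducts_of_preservesBinaryCoproducts (GF A F x)
  exact Functor.additive_of_preservesBinaryBiproducts _

variable {F}

lemma mono_GF (hfl : FlatMod.IsFlatOver (X ↘ Spec (CommRingCat.of A)) F) (x : X)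
    {M N : ModuleCat.{u} A} (φ : M ⟶ N) [Mono φ] : Mono ((GF A F x).map φ) := by
  haveI := (tilde_exact (CommRingCat.of A)).1
  let f := X ↘ Spec (CommRingCat.of A)
  let g := (DerSch.stalkFunctor (Spec (CommRingCat.of A)) (f.base x)).map
    ((tilde.functor (CommRingCat.of A)).map φ)
  have hg : Function.Injective g := (ModuleCat.mono_iff_injective _).1 inferInstance
  letI := (stφ f x).toAlgebra
  letI := FlatMod.moduleStalkOver f F x
  haveI : IsScalarTower ((Spec (CommRingCat.of A)).presheaf.stalk (f.base x)) (X.presheaf.stalk x)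
      (F.presheaf.stalk x) := IsScalarTower.of_algebraMap_smul fun _ _ => rfl
  haveI : Module.Flat ((Spec (CommRingCat.of A)).presheaf.stalk (f.base x)) (F.presheaf.stalk x) := hfl x
  rw [ModuleCat.mono_iff_injective]
  exact injective_baseChange_rTensor (S := X.presheaf.stalk x) (N := F.presheaf.stalk x) g.hom hg

variable (F)

/-- `F ⊗_A A` is `F`. -/
def tfSelfIso : (TF F).obj (ModuleCat.of A A) ≅ F :=
  (DCoh.tensorRightMod F).mapIso
    ((Scheme.Modules.pullback (X ↘ Spec (CommRingCat.of A))).mapIso tildeSelf ≪≫
      PicLoc.pullbackStructureIso (X ↘ Spec (CommRingCat.of A))) ≪≫ TensorMod.unitLeftIso F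

instance additive_TF : (TF (A := A) F).Additive := by
  haveI : (Scheme.Modules.pullback (X ↘ Spec (CommRingCat.of A))).Additive :=
    (Scheme.Modules.pullbackPushforwardAdjunction _).left_adjoint_additive
  haveI : PreservesFiniteColimits (tilde.functor (CommRingCat.of A)) := (tilde_exact _).2
  haveI := preservesBinaryBiproducts_of_preservesBinaryCoproducts (tilde.functor (CommRingCat.of A))
  haveI : (tilde.functor (CommRingCat.of A)).Additive := Functor.additive_of_preservesBinaryBiproducts _
  haveI : (DCoh.tensorRightMod F).Additive := DCoh.additive_tensorRightMod F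
  show (tilde.functor (CommRingCat.of A) ⋙ Scheme.Modules.pullback (X ↘ Spec (CommRingCat.of A)) ⋙ DCoh.tensorRightMod F).Additive
  infer_instance

variable {F}

/-- For a module flat over the base the functor is exact. -/
theorem shortExact_map_TF (hfl : FlatMod.IsFlatOver (X ↘ Spec (CommRingCat.of A)) F)
    {S : ShortComplex (ModuleCat.{u} A)} (hS : S.ShortExact) : (S.map (TF F)).ShortExact := by
  haveI hG : ∀ x, PreservesFiniteLimits (GF A F x) := fun x => by
    rw [Functor.preservesFiniteLimits_iff_forall_exact_map_and_mono]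
    intro T hT
    haveI := hT.mono_f
    exact ⟨((Functor.preservesFiniteColimits_iff_forall_exact_map_and_epi _).1 inferInstance T hT).1,
      mono_GF hfl x T.f⟩
  have key : ∀ x, ((S.map (TF F)).map (DerSch.stalkFunctor X x)).ShortExact := fun x =>
    ShortComplex.shortExact_of_iso (S.mapNatIso (stalkTIso F x)).symm (hS.map_of_exact (GF A F x))
  refine { exact := ?_, mono_f := ?_, epi_g := ?_ }
  · rw [ShortComplex.exact_iff_isZero_homology]
    exact DCohBridge.isZero_of_stalk fun x => ((ShortComplex.exact_iff_isZero_homology _).1 (key x).exact).of_iso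
      ((S.map (TF F)).mapHomologyIso (DerSch.stalkFunctor X x)).symm
  · refine Preadditive.mono_of_isZero_kernel _ (DCohBridge.isZero_of_stalk fun x => ?_)
    haveI : Mono ((DerSch.stalkFunctor X x).map ((S.map (TF F)).f)) := (key x).mono_f
    exact (isZero_kernel_of_mono ((DerSch.stalkFunctor X x).map ((S.map (TF F)).f))).of_iso
      (PreservesKernel.iso (DerSch.stalkFunctor X x) _)
  · refine Preadditive.epi_of_isZero_cokernel _ (DCohBridge.isZero_of_stalk fun x => ?_)
    haveI : Epi ((DerSch.stalkFunctor X x).map ((S.map (TF F)).g)) := (key x).epi_g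
    exact (isZero_cokernel_of_epi ((DerSch.stalkFunctor X x).map ((S.map (TF F)).g))).of_iso
      (PreservesCokernel.iso (DerSch.stalkFunctor X x) _)

section Free

/-- The projection onto a finite set of coordinates. -/
def projFin {I : Type u} (J : Finset I) : ModuleCat.of A (I →₀ A) ⟶ ModuleCat.of A (I →₀ A) :=
  ∑ i ∈ J, ModuleCat.ofHom (Finsupp.lapply i) ≫ ell (Finsupp.single i (1 : A))

lemma projFin_apply {I : Type u} (J : Finset I) (m : I →₀ A) (h : m.support ⊆ J) :
    projFin J m = m := by
  classical
  have : ∀ K : Finset I, (projFin K).hom m = ∑ i ∈ K, Finsupp.single i (m i) := fun K => by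
    induction K using Finset.induction_on with
    | empty => simp [projFin]
    | insert a K ha ih =>
      rw [Finset.sum_insert ha, ← ih]
      simp only [projFin, Finset.sum_insert ha]
      simp [ell]
  refine (this J).trans ?_
  rw [← Finset.sum_subset h (fun i _ hi => by rw [Finsupp.notMem_support_iff.1 hi, Finsupp.single_zero])]
  exact m.sum_single

lemma sum_hom_apply {M N : X.Modules} {κ : Type*} (J : Finset κ) (φ : κ → (M ⟶ N)) (U : X.Opens)
    (s : Γ(M, U)) : (∑ i ∈ J, φ i).app U s = ∑ i ∈ J, (φ i).app U s := by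
  classical
  induction J using Finset.induction_on with
  | empty => simp
  | insert a J ha ih => rw [Finset.sum_insert ha, Finset.sum_insert ha, ← ih]; rfl

/-- Sections on a compact open of `F ⊗_A` (free) only involve finitely many coordinates. -/
lemma free_sections {I : Type u} {U : X.Opens} (hU : IsCompact (U : Set X))
    (s : Γ((TF F).obj (ModuleCat.of A (I →₀ A)), U)) :
    ∃ J : Finset I, s = ∑ i ∈ J, ((TF F).map (ell (M := ModuleCat.of A (I →₀ A)) (Finsupp.single i (1 : A)))).app U
      (((TF F).map (ModuleCat.ofHom (Finsupp.lapply i))).app U s) := by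
  classical
  let M : ModuleCat.{u} A := ModuleCat.of A (I →₀ A)
  have hloc : ∀ x : U, ∃ (J : Finset I), ∀ J' : Finset I, J ⊆ J' →
      ((TF F).obj M).presheaf.germ U x.1 x.2 (((TF F).map (projFin J')).app U s) =
        ((TF F).obj M).presheaf.germ U x.1 x.2 s := by
    rintro ⟨x, hx⟩
    let st := DerSch.stalkFunctor X x
    let z : st.obj ((TF F).obj M) := gmM ((TF F).obj M) U hx s
    obtain ⟨J, hJ⟩ : ∃ J : Finset I, ∀ J' : Finset I, J ⊆ J' →
        st.map ((TF F).map (projFin J')) z = z := by
      have hgen := Gen.of_iso (stalkTIso F x).symm (gen_GF (A := A) F x) M z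
      revert hgen
      generalize z = z'
      intro hgen
      induction hgen using AddSubmonoid.closure_induction with
      | mem y hy =>
        obtain ⟨m, w, rfl⟩ := hy
        refine ⟨(show I →₀ A from m).support, fun J' hJ' => ?_⟩
        have e : ell m ≫ projFin J' = ell m := ModuleCat.hom_ext (LinearMap.ext_ring (by
          show projFin J' ((1 : A) • m) = (1 : A) • m
          rw [one_smul]
          exact projFin_apply J' m hJ'))
        conv_rhs => rw [← e]
        simp only [Functor.comp_map, Functor.map_comp, ConcreteCategory.comp_apply, st]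
        rfl
      | zero => exact ⟨∅, fun _ _ => map_zero _⟩
      | add a b _ _ ha hb =>
        obtain ⟨J₁, h₁⟩ := ha
        obtain ⟨J₂, h₂⟩ := hb
        exact ⟨J₁ ∪ J₂, fun J' h => (map_add _ a b).trans (congrArg₂ (· + ·)
          (h₁ J' (Finset.union_subset_left h)) (h₂ J' (Finset.union_subset_right h)))⟩
    refine ⟨J, fun J' h => ?_⟩
    exact ((DerSch.stalkFunctor_map_germ x ((TF F).map (projFin J')) U hx s).symm.trans (hJ J' h))
  choose J hJ using hloc
  have hnear : ∀ x : U, ∃ (W : X.Opens) (hWU : W ≤ U), x.1 ∈ W ∧ ∀ J' : Finset I, J x ⊆ J' →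
      mres _ hWU (((TF F).map (projFin J')).app U s) = mres _ hWU s := by
    intro x
    obtain ⟨W, hxW, i₁, i₂, he⟩ := TopCat.Presheaf.germ_eq (C := AddCommGrpCat.{u})
      ((TF F).obj M).presheaf x.1 x.2 x.2 _ _ (hJ x (J x) subset_rfl)
    refine ⟨W, i₁.le, hxW, fun J' h => ?_⟩
    have he' : mres _ i₁.le (((TF F).map (projFin (J x))).app U s) = mres _ i₁.le s := he
    have hcomp : projFin (A := A) (J x) ≫ projFin J' = projFin (J x) :=
      ModuleCat.hom_ext (LinearMap.ext fun m => by
      show projFin J' (projFin (J x) m) = projFin (J x) m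
      refine projFin_apply J' _ (Finset.Subset.trans ?_ h)
      intro i hi
      by_contra hni
      apply Finsupp.mem_support_iff.1 hi
      simp [projFin, ell, Finsupp.single_apply, hni])
    rw [app_nat, ← he', ← app_nat]
    refine congrArg (mres _ i₁.le) ?_
    rw [← ConcreteCategory.comp_apply, ← Scheme.Modules.Hom.comp_app, ← Functor.map_comp, hcomp]
  choose W hWU hxW hW using hnear
  obtain ⟨t, ht⟩ := hU.elim_finite_subcover (fun x : U => (W x : Set X)) (fun x => (W x).2)
    (fun x hx => Set.mem_iUnion.2 ⟨⟨x, hx⟩, hxW ⟨x, hx⟩⟩)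
  let J₀ := t.biUnion J
  have key : ((TF F).map (projFin J₀)).app U s = s := by
    refine TopCat.Presheaf.section_ext (C := AddCommGrpCat.{u}) ⟨_, ((TF F).obj M).isSheaf⟩ _ _ _
      fun y hy => ?_
    obtain ⟨x, hxt, hyx⟩ : ∃ x ∈ t, y ∈ W x := by simpa using ht hy
    have h1 := congrArg (((TF F).obj M).presheaf.germ (W x) y hyx)
      (hW x J₀ (Finset.subset_biUnion_of_mem J hxt))
    exact (TopCat.Presheaf.germ_res_apply (C := AddCommGrpCat.{u}) _ (homOfLE (hWU x)) y hyx _).symm.trans
      (h1.trans (TopCat.Presheaf.germ_res_apply (C := AddCommGrpCat.{u}) _ (homOfLE (hWU x)) y hyx _))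
  refine ⟨J₀, key.symm.trans ?_⟩
  rw [projFin, Functor.map_sum, sum_hom_apply]
  exact Finset.sum_congr rfl fun i _ => by
    rw [Functor.map_comp, Scheme.Modules.Hom.comp_app, ConcreteCategory.comp_apply]

lemma free_coord {I : Type u} (i j : I) [Decidable (j = i)] :
    ell (M := ModuleCat.of A (I →₀ A)) (Finsupp.single j (1 : A)) ≫ ModuleCat.ofHom (Finsupp.lapply i) =
      if j = i then 𝟙 _ else 0 := by
  classical
  refine ModuleCat.hom_ext (LinearMap.ext_ring ?_)
  show ((1 : A) • Finsupp.single j (1 : A)) i = _
  split_ifs with h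
  · subst h; simp
  · simp [Finsupp.single_apply, h]

/-- The coordinates of a finite combination. -/
lemma free_coord_sum {I : Type u} (U : X.Opens) (J : Finset I)
    (c : I → Γ((TF F).obj (ModuleCat.of A A), U)) (i : I) [Decidable (i ∈ J)] :
    ((TF F).map (ModuleCat.ofHom (Finsupp.lapply i))).app U
      (∑ j ∈ J, ((TF F).map (ell (M := ModuleCat.of A (I →₀ A)) (Finsupp.single j (1 : A)))).app U (c j)) =
      if i ∈ J then c i else 0 := by
  classical
  have h : ∀ j, ((TF F).map (ModuleCat.ofHom (Finsupp.lapply i))).app U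
      (((TF F).map (ell (M := ModuleCat.of A (I →₀ A)) (Finsupp.single j (1 : A)))).app U (c j)) =
      if j = i then c j else 0 := fun j => by
    rw [← ConcreteCategory.comp_apply, ← Scheme.Modules.Hom.comp_app, ← Functor.map_comp, free_coord]
    split_ifs
    · rw [CategoryTheory.Functor.map_id, Scheme.Modules.Hom.id_app]; rfl
    · rw [Functor.map_zero, Scheme.Modules.Hom.zero_app]; rfl
  rw [map_sum, Finset.sum_congr rfl fun j _ => h j, Finset.sum_ite_eq']
  split_ifs <;> rfl

/-- `F ⊗_A` of a free module is quasi-coherent. -/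
lemma isQCoh_free (hF : Coh.IsQCoh F) (I : Type u) :
    Coh.IsQCoh ((TF F).obj (ModuleCat.of A (I →₀ A))) := by
  classical
  haveI : ((TF (A := A) F).obj (ModuleCat.of A A)).IsQuasicoherent :=
    TensorMod.isQCoh_of_iso (tfSelfIso F).symm hF
  refine isQuasicoherent_of_forall_localizesOn fun U hU f => ?_
  let P := (TF F).obj (ModuleCat.of A A)
  let ι := fun i : I => (TF F).map (ell (M := ModuleCat.of A (I →₀ A)) (Finsupp.single i (1 : A)))
  let π := fun i : I => (TF F).map (ModuleCat.ofHom (Finsupp.lapply (R := A) (M := A) i))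
  refine ⟨fun x => ?_, fun y hy => ?_⟩
  · obtain ⟨J, hJ⟩ := free_sections (F := F) ((hU.basicOpen f).isCompact) x
    choose n z hz using fun i => (localizesOn_of_isQuasicoherent P hU f).1 ((π i).app _ x)
    let N := J.sup n
    refine ⟨N, ∑ i ∈ J, (ι i).app U (f ^ (N - n i) • z i), ?_⟩
    rw [map_sum]
    conv_rhs => rw [hJ, Finset.smul_sum]
    refine Finset.sum_congr rfl fun i hi => ?_
    have hn : n i ≤ N := Finset.le_sup hi
    rw [app_nat, mres_smul, hz, map_pow, smul_smul, ← pow_add, Nat.sub_add_cancel hn,
      Scheme.Modules.Hom.app_smul]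
  · obtain ⟨J, hJ⟩ := free_sections (F := F) hU.isCompact y
    have hk : ∀ i, ∃ n : ℕ, f ^ n • (π i).app U y = 0 := fun i =>
      (localizesOn_of_isQuasicoherent P hU f).2 _ (by rw [app_nat, hy, map_zero])
    choose n hn using hk
    refine ⟨J.sup n, ?_⟩
    rw [hJ, Finset.smul_sum]
    refine Finset.sum_eq_zero fun i hi => ?_
    rw [← Scheme.Modules.Hom.app_smul, ← Nat.sub_add_cancel (Finset.le_sup (f := n) hi), pow_add,
      mul_smul, hn i, smul_zero, map_zero]

end Free

/-- A free presentation. -/
lemma exists_freePresentation (M : ModuleCat.{u} A) :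
    ∃ (I₁ I₀ : Type u) (d : ModuleCat.of A (I₁ →₀ A) ⟶ ModuleCat.of A (I₀ →₀ A))
      (π : ModuleCat.of A (I₀ →₀ A) ⟶ M) (w : d ≫ π = 0), Epi π ∧ (ShortComplex.mk d π w).Exact := by
  let π : ModuleCat.of A (M →₀ A) ⟶ M := ModuleCat.ofHom (Finsupp.linearCombination A id)
  have hπ : Function.Surjective π := Finsupp.linearCombination_surjective A Function.surjective_id
  let d : ModuleCat.of A (LinearMap.ker π.hom →₀ A) ⟶ ModuleCat.of A (M →₀ A) :=
    ModuleCat.ofHom (Finsupp.linearCombination A (fun z : LinearMap.ker π.hom => z.1))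
  have w : d ≫ π = 0 := ModuleCat.hom_ext (Finsupp.lhom_ext fun z a => by
    show π.hom (Finsupp.linearCombination A (fun z : LinearMap.ker π.hom => z.1) (Finsupp.single z a)) = 0
    rw [Finsupp.linearCombination_single, map_smul, LinearMap.mem_ker.1 z.2, smul_zero])
  refine ⟨_, _, d, π, w, (ModuleCat.epi_iff_surjective _).2 hπ, ?_⟩
  rw [ShortComplex.moduleCat_exact_iff]
  intro m hm
  refine ⟨Finsupp.single ⟨m, hm⟩ 1, ?_⟩
  show Finsupp.linearCombination A (fun z : LinearMap.ker π.hom => z.1) (Finsupp.single ⟨m, hm⟩ 1) = m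
  rw [Finsupp.linearCombination_single, one_smul]

/-- `F ⊗_A M` is quasi-coherent. -/
theorem isQCoh_TF (hF : Coh.IsQCoh F) (hfl : FlatMod.IsFlatOver (X ↘ Spec (CommRingCat.of A)) F)
    (M : ModuleCat.{u} A) : Coh.IsQCoh ((TF F).obj M) := by
  obtain ⟨I₁, I₀, d, π, w, hπ, hex⟩ := exists_freePresentation M
  haveI : PreservesFiniteColimits (TF (A := A) F) :=
    ((((TF (A := A) F).exact_tfae).out 0 3 rfl rfl).1 fun S hS => shortExact_map_TF hfl hS).2
  have e : cokernel ((TF F).map d) ≅ (TF F).obj M :=
    (PreservesCokernel.iso (TF F) d).symm ≪≫ (TF F).mapIso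
      (IsColimit.coconePointUniqueUpToIso (cokernelIsCokernel d) (hex.gIsCokernel))
  exact TensorMod.isQCoh_of_iso e
    (isQuasicoherent_cokernel _ (isQCoh_free hF I₁) (isQCoh_free hF I₀))

end Groth.Agent.BCModel
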